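import Cfsg.Agent.PushPair39.Pair

/-!
No critical path of length two: for primes from five on a torus element is used.
-/

set_option autoImplicit false
set_option maxHeartbeats 400000
set_option linter.unusedSectionVars false

open scoped commutatorElement
open CfsgLib.PushingUp44 (cj mem_cj conj_mem_cj cj_cj cj_inv_cj cj_sup cj_inf cj_eq_of_le_normalizer
  le_normalizer_of_conj_le commute_of_le_centralizer comm_mul_left comm_mul_right commute_comm_one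
  commute_of_comm_one exists_mul_of_mem_sup comm_symm_mem relIndex_anti_left relIndex_mono_right fixMod
  mem_fixMod_sup cj_fixMod_le)
open CfsgLib.CentrallyLarge (cen)

namespace CfsgLib.PushPair39

namespace Conf

variable {Γ : Type*} [Group Γ] {ι : Type*} {c : Conf Γ ι} [Finite Γ] {a b : c.Vtx} {E0 : Subgroup Γ} {h g : Γ}

namespace Pair

variable (o : c.Pair a b E0 h g)
include o

local notation "X" => Conf.Vx c (Conf.act c h b)
local notation "Y" => Conf.Vx c (Conf.act c g a)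
local notation "D" => Conf.Qx c a ⊓ Conf.Qx c b
local notation "N" => fr (Conf.p c) (Conf.Qx c a)
local notation "N0" => (Conf.Vx c a ⊔ fr (Conf.p c) (Conf.Qx c a))
local notation "N2" =>
  fixMod (Conf.Qx c a) (Conf.Vx c a ⊔ fr (Conf.p c) (Conf.Qx c a)) (Conf.Gx c a : Set Γ)

/-! ### The linear form on the intersection of the two cores -/

section form

variable {y : Γ} (hy : y ∈ c.Vx (c.act g a))
include hy

theorem T_mem {d : Γ} (hd : d ∈ D) : ⁅d, y⁆ ∈ Zc E0 := by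
  obtain ⟨v, hv, w, hw, t, ht, rfl⟩ := o.dec hd
  rw [mul_assoc, comm_mul_left,
    commute_comm_one ((c.commute_Vx hw (o.Y_le_Qb hy)).mul_left (o.R_commY ht hy).symm), mul_one, mul_inv_cancel,
    one_mul]
  exact comm_mem_Zc o.sylA hv (o.Y_le hy)

theorem T_mul {d d' : Γ} (hd : d ∈ D) (hd' : d' ∈ D) : ⁅d * d', y⁆ = ⁅d, y⁆ * ⁅d', y⁆ := by
  rw [comm_mul_left, (o.zc_comm (o.T_mem hy hd') (o.D_le hd)).symm.eq, mul_inv_cancel_right,
    (o.zc_comm (o.T_mem hy hd') (o.T_mem hy hd).1).eq]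

theorem T_pow {d : Γ} (hd : d ∈ D) (n : ℕ) : ⁅d ^ n, y⁆ = ⁅d, y⁆ ^ n := by
  induction n with
  | zero => simp
  | succ n ih => rw [pow_succ, o.T_mul hy (Subgroup.pow_mem _ hd n) hd, ih, pow_succ]

theorem T_J {j : Γ} (hj : j ∈ N ⊔ Zc E0) : ⁅j, y⁆ = 1 := by
  refine commute_comm_one ?_
  have hle : N ⊔ Zc E0 ≤ Subgroup.centralizer ({y} : Set Γ) := sup_le
    (fun n hn => Subgroup.mem_centralizer_singleton_iff.2 (o.fr_commY hn hy).eq.symm)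
    (fun z hz => Subgroup.mem_centralizer_singleton_iff.2 (o.zc_comm hz (o.Y_le hy)).eq)
  exact Subgroup.mem_centralizer_singleton_iff.1 (hle hj)

theorem T_conj {d e : Γ} (hd : d ∈ D) (he : e ∈ E0) : ⁅e * d * e⁻¹, y⁆ = ⁅d, y⁆ := by
  have hed : e * d * e⁻¹ ∈ D := (Subgroup.mem_normalizer_iff.1 (o.E_norm_D he) d).1 hd
  have h1 : e * d * e⁻¹ = ⁅e, d⁆ * d := by rw [commutatorElement_def]; group
  have h2 : ⁅e, d⁆ ∈ D := by rw [commutatorElement_def]; exact Subgroup.mul_mem _ hed (Subgroup.inv_mem _ hd)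
  rw [h1, o.T_mul hy h2 hd, o.T_J hy (comm_symm_mem (o.comm_D hd he)), one_mul]

theorem Phi_mul_left {u u' e : Γ} (hu : u ∈ E0) (hu' : u' ∈ E0) (he : e ∈ E0) :
    ⁅⁅u * u', e⁆, y⁆ = ⁅⁅u, e⁆, y⁆ * ⁅⁅u', e⁆, y⁆ := by
  have h1 := o.frE_le (comm_mem_fr c.p hu he)
  have h2 := o.frE_le (comm_mem_fr c.p hu' he)
  rw [comm_mul_left u u' e, o.T_mul hy ((Subgroup.mem_normalizer_iff.1 (o.E_norm_D hu) _).1 h2) h1,
    o.T_conj hy h2 hu, (o.zc_comm (o.T_mem hy h2) (o.T_mem hy h1).1).eq]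

theorem Phi_mul_right {u e e' : Γ} (hu : u ∈ E0) (he : e ∈ E0) (he' : e' ∈ E0) :
    ⁅⁅u, e * e'⁆, y⁆ = ⁅⁅u, e⁆, y⁆ * ⁅⁅u, e'⁆, y⁆ := by
  have h1 := o.frE_le (comm_mem_fr c.p hu he)
  have h2 := o.frE_le (comm_mem_fr c.p hu he')
  rw [comm_mul_right e e' u, o.T_mul hy h1 ((Subgroup.mem_normalizer_iff.1 (o.E_norm_D he) _).1 h2),
    o.T_conj hy h2 he]

theorem Phi_pow {u e : Γ} (hu : u ∈ E0) (he : e ∈ E0) (m n : ℕ) :
    ⁅⁅u ^ m, e ^ n⁆, y⁆ = ⁅⁅u, e⁆, y⁆ ^ (m * n) := by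
  have hl : ∀ k, ⁅⁅u, e ^ k⁆, y⁆ = ⁅⁅u, e⁆, y⁆ ^ k := by
    intro k
    induction k with
    | zero => simp
    | succ k ih => rw [pow_succ e, o.Phi_mul_right hy hu (pow_mem he k) he, ih, pow_succ]
  rw [mul_comm, pow_mul, ← hl]
  induction m with
  | zero => simp
  | succ m ih => rw [pow_succ u, o.Phi_mul_left hy (pow_mem hu m) hu (pow_mem he n), ih, pow_succ]

theorem T_pow_right {d : Γ} (hd : d ∈ D) (n : ℕ) : ⁅d, y ^ n⁆ = ⁅d, y⁆ ^ n := by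
  induction n with
  | zero => simp
  | succ n ih =>
    rw [pow_succ, comm_mul_right, ih, (o.zc_comm (o.T_mem hy hd) (pow_mem (o.Y_le hy) n)).symm.eq,
      mul_inv_cancel_right, pow_succ]

end form

theorem q_le : c.q b.1 ≤ c.q a.1 := by
  obtain ⟨y, hy, hyQ⟩ := o.exists_y
  have hdec : ∀ x : ↥X, ∃ v : ↥(c.Vx a), ⁅⁅(x : Γ), y⁆, y⁆ = ⁅(v : Γ), y⁆ := by
    intro x
    obtain ⟨v, hv, w, hw, t, ht, e⟩ := o.dec (o.frE_le (comm_mem_fr c.p (o.X_le x.2) (o.Y_le hy)))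
    refine ⟨⟨v, hv⟩, ?_⟩
    rw [← e, mul_assoc, comm_mul_left,
      commute_comm_one ((c.commute_Vx hw (o.Y_le_Qb hy)).mul_left (o.R_commY ht hy).symm), mul_one, mul_inv_cancel,
      one_mul]
  choose f hf using hdec
  classical
  let φ : (↥X ⧸ (c.Qx b).subgroupOf X) → (↥(c.Vx a) ⧸ (Zc E0).subgroupOf (c.Vx a)) :=
    fun x => QuotientGroup.mk (f x.out)
  have hφ : Function.Injective φ := by
    intro x x' e
    have h0 : (f x.out)⁻¹ * f x'.out ∈ (Zc E0).subgroupOf (c.Vx a) := QuotientGroup.eq.1 e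
    have h1 : (f x.out : Γ)⁻¹ * (f x'.out : Γ) ∈ Zc E0 := Subgroup.mem_subgroupOf.1 h0
    have h2 : ⁅(f x'.out : Γ), y⁆ = ⁅(f x.out : Γ), y⁆ := by
      rw [show (f x'.out : Γ) = f x.out * ((f x.out : Γ)⁻¹ * f x'.out) by group, comm_mul_left,
        commute_comm_one (o.zc_comm h1 (o.Y_le hy)), mul_one, mul_inv_cancel, one_mul]
    rw [← hf, ← hf] at h2
    set x'' := (x.out : Γ)⁻¹ * x'.out with hx''
    have hxX : x'' ∈ X := Subgroup.mul_mem _ (Subgroup.inv_mem _ x.out.2) x'.out.2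
    rw [show (x'.out : Γ) = x.out * x'' by rw [hx'']; group,
      o.Phi_mul_left hy (o.X_le x.out.2) (o.X_le hxX) (o.Y_le hy), mul_eq_left] at h2
    have hQ : x'' ∈ c.Qx b := by_contra fun hn => by
      obtain ⟨v, -, w, -, t, -, -, -, hne, e'⟩ := o.comm_dec hxX hn hy hyQ
      exact hne (e' ▸ h2)
    rw [← x.out_eq, ← x'.out_eq]
    exact QuotientGroup.eq.2 (Subgroup.mem_subgroupOf.2 hQ)
  calc c.q b.1 = (c.Qx b).relIndex X := o.symm.q_eq.symm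
    _ ≤ (Zc E0).relIndex (c.Vx a) := Nat.card_le_card_of_injective φ hφ
    _ = c.q a.1 := relIndex_Zc o.sylA

theorem fr_le_core : N ≤ c.Qx a :=
  le_cen_fr _ (fun _ hq => pow_mem hq _) (fun _ hq _ hq' => by
    rw [commutatorElement_def]; exact mul_mem (mul_mem (mul_mem hq hq') (inv_mem hq)) (inv_mem hq'))

theorem N0_normal : c.Gx a ≤ Subgroup.normalizer ((N0 : Subgroup Γ) : Set Γ) := by
  refine le_normalizer_of_conj_le fun k hk => ?_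
  rw [cj_sup, cj_Vx_eq hk, cj_eq_of_le_normalizer (o.fr_normal hk)]

theorem N2_normal : c.Gx a ≤ Subgroup.normalizer ((N2 : Subgroup Γ) : Set Γ) := by
  refine le_normalizer_of_conj_le fun k hk => ?_
  refine (cj_fixMod_le k (H' := (c.Gx a : Set Γ)) fun s hs => mul_mem (mul_mem (inv_mem hk) hs) hk).trans ?_
  rw [cj_Qx_eq hk, cj_eq_of_le_normalizer (o.N0_normal hk)]

theorem N0_le : N0 ≤ N2 := fun n hn => by
  refine ⟨sup_le (c.Vx_le_Qx _) o.fr_le_core hn, Subgroup.le_normalizer hn, fun k hk => comm_symm_mem ?_⟩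
  rw [commutatorElement_def]
  exact Subgroup.mul_mem _ ((Subgroup.mem_normalizer_iff.1 (o.N0_normal hk) n).1 hn) (Subgroup.inv_mem _ hn)

theorem J_le : N ⊔ Zc E0 ≤ N0 := sup_le le_sup_right ((c.Zc_le_Vx o.sylA).trans le_sup_left)

/-- What lies in both intersections is fixed. -/
theorem mem_N2 {d : Γ} (hd : d ∈ D) (hd' : d ∈ c.Qx (c.act h b)) : d ∈ N2 := by
  have hG : d ∈ c.Gx a := c.syl_le_Gx o.sylA (o.D_le hd)
  have hnA : E0 ≤ Subgroup.normalizer ((N0 : Subgroup Γ) : Set Γ) := (c.syl_le_Gx o.sylA).trans o.N0_normal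
  have hnB : cj h E0 ≤ Subgroup.normalizer ((N0 : Subgroup Γ) : Set Γ) :=
    (c.syl_le_Gx (Syl.cj_eq c o.sylA o.hmem)).trans o.N0_normal
  have hdD : h⁻¹ * d * h ∈ D := by
    refine ⟨?_, mem_cj.1 ((Qx_act c h b).le hd')⟩
    show h⁻¹ * d * h ∈ c.Qx a
    rw [← mem_cj, cj_Qx_eq o.hmem]; exact hd.1
  have h1 : d ∈ fixMod (c.Qx a) N0 (E0 : Set Γ) := ⟨hd.1, o.N0_normal hG, fun e he => o.J_le (o.comm_D hd he)⟩
  have h2 : d ∈ fixMod (c.Qx a) N0 (cj h E0 : Set Γ) := ⟨hd.1, o.N0_normal hG, fun e he => by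
    have h3 : ⁅h⁻¹ * d * h, h⁻¹ * e * h⁆ ∈ N0 := o.J_le (o.comm_D hdD (mem_cj.1 he))
    have h4 := (Subgroup.mem_normalizer_iff.1 (o.N0_normal o.hmem) _).1 h3
    rwa [show h * ⁅h⁻¹ * d * h, h⁻¹ * e * h⁆ * h⁻¹ = ⁅d, e⁆ by simp [commutatorElement_def, mul_assoc]] at h4⟩
  have h5 := mem_fixMod_sup hnB hnA h2 h1
  rwa [o.hopp] at h5

/-- An element of the core moved into the fixed part by an outer element lies in both cores. -/
theorem key {q y : Γ} (hq : q ∈ c.Qx a) (hy : y ∈ Y) (hyQ : y ∉ c.Qx a) (hm : ⁅q, y⁆ ∈ N2) : q ∈ D := by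
  obtain ⟨x, hx, d, hd, rfl⟩ := o.decQ hq
  refine ⟨hq, Subgroup.mul_mem _ ?_ hd.2⟩
  by_contra hxb
  have hxG : x ∈ c.Gx a := c.syl_le_Gx o.sylA (o.X_le hx)
  have hdy : x * ⁅d, y⁆ * x⁻¹ ∈ N2 :=
    (Subgroup.mem_normalizer_iff.1 (o.N2_normal hxG) _).1 (o.N0_le (o.J_le (o.comm_D hd (o.Y_le hy))))
  have hu : ⁅x, y⁆ ∈ N2 := by
    rw [comm_mul_left] at hm
    have h1 := Subgroup.mul_mem _ (Subgroup.inv_mem _ hdy) hm
    rwa [inv_mul_cancel_left] at h1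
  obtain ⟨v, hv, w, hw, t, ht, e⟩ := o.dec (o.frE_le (comm_mem_fr c.p (o.X_le hx) (o.Y_le hy)))
  have hwN : w ∈ N2 := by
    rw [show w = v⁻¹ * ⁅x, y⁆ * t⁻¹ by rw [← e]; group]
    exact Subgroup.mul_mem _ (Subgroup.mul_mem _ (Subgroup.inv_mem _ (o.N0_le (Subgroup.mem_sup_left hv))) hu)
      (Subgroup.inv_mem _ (o.mem_N2 ht.1 ht.2.1))
  have hwZ : w ∉ Zc E0 := fun hz => o.symm.nondeg (o.Y_le_Qb hy) hyQ hx hxb fun x' hx' => by
    rw [← commutatorElement_inv, ← e]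
    exact (((c.commute_Vx hv (o.X_le_Qa hx')).mul_left (o.zc_comm hz (o.X_le hx'))).mul_left
      (o.R_commX ht hx').symm).inv_left
  have hh' : h⁻¹ ∈ c.Gx a := inv_mem o.hmem
  have hopp' : cj h⁻¹ E0 ⊔ E0 = c.Gx a := by
    have := congrArg (cj h⁻¹) o.hopp
    rwa [cj_sup, cj_inv_cj, cj_Gx_eq hh', sup_comm] at this
  have o' := o.changeA hh' hopp'
  set x0 := h⁻¹ * w * h⁻¹⁻¹ with hx0
  have hx0X : x0 ∈ c.Vx (c.act h⁻¹ b) := by rw [Vx_act]; exact conj_mem_cj hw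
  have hx0b : x0 ∉ c.Qx b := fun hb => hwZ (by
    have h1 : x0 ∈ Zc (cj h⁻¹ E0) := o'.symm.Y_cen.le ⟨hx0X, c.Qx_le_centralizer _ hb⟩
    rw [hx0, Zc_cj, mem_cj] at h1
    simpa [mul_assoc] using h1)
  have hx0N : x0 ∈ N2 := (Subgroup.mem_normalizer_iff.1 (o.N2_normal hh') w).1 hwN
  have hc : ⁅y, x0⁆ ∈ N0 := comm_symm_mem (hx0N.2.2 y (c.syl_le_Gx o.sylA (o.Y_le hy)))
  refine o'.symm.nondeg (o.Y_le_Qb hy) hyQ hx0X hx0b fun x' hx' => ?_
  have hle : N0 ≤ Subgroup.centralizer ({x'} : Set Γ) := sup_le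
    (fun v hv => Subgroup.mem_centralizer_singleton_iff.2 (c.commute_Vx hv (o'.X_le_Qa hx')).eq)
    (fun n hn => Subgroup.mem_centralizer_singleton_iff.2 (o'.fr_commX hn hx').eq.symm)
  exact Subgroup.mem_centralizer_singleton_iff.1 (hle hc)

theorem fix_le {q : Γ} (hq : q ∈ fixMod (c.Qx a) N2 (E0 : Set Γ)) : q ∈ D := by
  obtain ⟨y, hy, hyQ⟩ := o.exists_y
  exact o.key hq.1 hy hyQ (hq.2.2 y (o.Y_le hy))

theorem secPair : SecPair E0 (c.Gx a) (c.Qx a) (c.q a.1) (c.Qx a) N2 := by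
  have hQG : c.Qx a ≤ c.Gx a := (c.Qx_le_syl o.sylA).trans (c.syl_le_Gx o.sylA)
  have hcomm : ∀ u ∈ c.Qx a, ∀ v ∈ c.Qx a, ⁅u, v⁆ ∈ N2 := fun u hu v hv =>
    o.N0_le (Subgroup.mem_sup_right (comm_mem_fr _ hu hv))
  have hfix : ∀ q ∈ c.Qx a, (∀ k ∈ c.Gx a, ⁅q, k⁆ ∈ N2) → q ∈ D := fun q hq hk => by
    obtain ⟨y, hy, hyQ⟩ := o.exists_y
    exact o.key hq hy hyQ (hk y (c.syl_le_Gx o.sylA (o.Y_le hy)))
  refine ⟨le_rfl, c.Gx_le_normalizer_Qx a, o.N2_normal, fun _ hu => hu.1, hcomm, hcomm, fun u hu s hs s' hs' => ?_,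
    fun u hu hk => ?_, ?_, fun hle => ?_⟩
  · exact o.N0_le (o.J_le (o.comm_D (o.frE_le (comm_mem_fr _ (c.Qx_le_syl o.sylA hu) hs)) hs'))
  · have hu' : h⁻¹ * u * h ∈ c.Qx a := by rw [← mem_cj, cj_Qx_eq o.hmem]; exact hu
    have h1 : h⁻¹ * u * h ∈ D := hfix _ hu' fun k hk' => by
      have hk2 : h * k * h⁻¹ ∈ c.Gx a := mul_mem (mul_mem o.hmem hk') (inv_mem o.hmem)
      have h2 := (Subgroup.mem_normalizer_iff.1 (o.N2_normal (inv_mem o.hmem)) _).1 (hk _ hk2)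
      rwa [show h⁻¹ * ⁅u, h * k * h⁻¹⁆ * h⁻¹⁻¹ = ⁅h⁻¹ * u * h, k⁆ by
        simp [commutatorElement_def, mul_assoc]] at h2
    exact o.mem_N2 (hfix u hu hk) (by rw [Qx_act, mem_cj]; exact h1.2)
  · have h1 : D ≤ fixMod (c.Qx a) N2 (E0 : Set Γ) := fun d hd =>
      ⟨hd.1, o.N2_normal (hQG hd.1), fun e he => o.N0_le (o.J_le (o.comm_D hd he))⟩
    refine (relIndex_anti_left h1 _).trans ?_
    rw [Subgroup.inf_relIndex_left]
    refine (relIndex_mono_right _ (c.Qx_le_syl o.sylA)).trans ?_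
    rw [relIndex_core o.sylB]
    exact o.q_le
  · obtain ⟨x, hx, hxb⟩ := o.symm.exists_y
    exact hxb (hfix x (o.X_le_Qa hx) fun k hk => o.N0_le ((hle (o.X_le_Qa hx)).2.2 k hk)).2

theorem elim : False := by
  have hp2 := o.p_ne_two
  have hp3 := o.p_ne_three
  obtain ⟨j, hj⟩ := c.prime.odd_of_ne_two hp2
  have hp6 : Nat.Coprime 6 c.p := by
    refine Nat.Coprime.symm ((c.prime.coprime_iff_not_dvd).2 fun hd => ?_)
    have hle := Nat.le_of_dvd (by omega) hd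
    have hge := c.prime.two_le
    interval_cases h : c.p <;> omega
  obtain ⟨τ, hτG, hτS, hτP⟩ := exists_torus o.sylA (l := 2) fun hd =>
    hp2 (((Nat.prime_dvd_prime_iff_eq c.prime Nat.prime_two).1 hd))
  obtain ⟨-, hτκ⟩ := hτP _ _ o.secPair
  obtain ⟨hτ2, -⟩ := hτP _ _ (secPair_module o.sylA)
  obtain ⟨x, hx, hxb⟩ := o.symm.exists_y
  obtain ⟨y, hy, hyQ⟩ := o.exists_y
  obtain ⟨v, hv, w, -, t, -, -, -, hne, hz⟩ := o.comm_dec hx hxb hy hyQ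
  set z := ⁅v, y⁆ with hzdef
  have hxE := o.X_le hx
  have hyE := o.Y_le hy
  set κ := j + 1 with hκdef
  have hκ : 2 * κ % c.p = 1 := by
    rw [show 2 * κ = c.p + 1 by omega, Nat.add_mod_left, Nat.mod_eq_of_lt c.prime.one_lt]
  set d := τ * x * τ⁻¹ * (x ^ κ)⁻¹ with hd
  have hdD : d ∈ D := o.fix_le (hτκ κ hκ x (o.X_le_Qa hx))
  set q := τ * y * τ⁻¹ * (y ^ (2 * 2))⁻¹ with hq
  have hqQ : q ∈ c.Qx a := hτS y hyE
  have hqE := c.Qx_le_syl o.sylA hqQ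
  have hdE := o.D_le hdD
  have hxk : x ^ κ ∈ E0 := pow_mem hxE _
  have hy4 : y ^ (2 * 2) ∈ E0 := pow_mem hyE _
  set u := ⁅d * x ^ κ, q * y ^ (2 * 2)⁆ with hu
  have huD : u ∈ D := o.frE_le (comm_mem_fr _ (mul_mem hdE hxk) (mul_mem hqE hy4))
  have hTu : ⁅u, y⁆ = z ^ (κ * (2 * 2)) := by
    rw [hu, o.Phi_mul_left hy hdE hxk (mul_mem hqE hy4),
      o.T_J hy (o.comm_D hdD (mul_mem hqE hy4)), one_mul, o.Phi_mul_right hy hxk hqE hy4,
      o.T_J hy (Subgroup.mem_sup_left (comm_mem_fr _ (pow_mem (o.X_le_Qa hx) κ) hqQ)), one_mul,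
      o.Phi_pow hy hxE hyE, hz]
  have hzZ : z ∈ Zc E0 := comm_mem_Zc o.sylA hv hyE
  have hzV : z ∈ c.Vx a := c.Zc_le_Vx o.sylA hzZ
  have eτ : τ * z * τ⁻¹ = ⁅u, q⁆ * z ^ (κ * (2 * 2) * (2 * 2)) := by
    calc τ * z * τ⁻¹ = τ * ⁅⁅x, y⁆, y⁆ * τ⁻¹ := by rw [hz]
      _ = ⁅⁅τ * x * τ⁻¹, τ * y * τ⁻¹⁆, τ * y * τ⁻¹⁆ := by simp [commutatorElement_def, mul_assoc]
      _ = ⁅u, q * y ^ (2 * 2)⁆ := by rw [hu, hd, hq, inv_mul_cancel_right, inv_mul_cancel_right]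
      _ = _ := by
        rw [comm_mul_right, o.T_pow_right hy huD, hTu, ← pow_mul,
          ((o.zc_comm (pow_mem hzZ _) hqE)).symm.eq, mul_inv_cancel_right]
  have hn0 : τ * z * τ⁻¹ * (z ^ 2)⁻¹ ∈ c.Vx a ⊓ c.Cx a := hτ2 z ⟨hzV,
    (secPair_module o.sylA).normN (c.syl_le_Gx o.sylA hzZ.1), fun e he => by
      rw [commute_comm_one (o.zc_comm hzZ he)]; exact one_mem _⟩
  rw [eτ] at hn0
  have hzp : z ^ c.p = 1 := c.Vx_elem hzV
  have e8 : z ^ (κ * (2 * 2) * (2 * 2)) = z ^ 8 := by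
    rw [show κ * (2 * 2) * (2 * 2) = c.p * 8 + 8 by rw [hκdef, hj]; ring, pow_add, pow_mul, hzp, one_pow, one_mul]
  rw [e8, mul_assoc, show z ^ 8 * (z ^ 2)⁻¹ = z ^ 6 by group] at hn0
  set M := N ⊔ (c.Vx a ⊓ c.Cx a) with hM
  have hMn : c.Gx a ≤ Subgroup.normalizer (M : Set Γ) := le_normalizer_of_conj_le fun k hk => by
    rw [hM, cj_sup, cj_eq_of_le_normalizer (o.fr_normal hk),
      cj_eq_of_le_normalizer ((secPair_module o.sylA).normN hk)]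
  have hMy : ∀ n ∈ M, Commute y n := fun n hn => by
    have hle : M ≤ Subgroup.centralizer ({y} : Set Γ) := sup_le
      (fun n hn => Subgroup.mem_centralizer_singleton_iff.2 (o.fr_commY hn hy).eq.symm)
      (fun n hn => Subgroup.mem_centralizer_singleton_iff.2
        (Subgroup.mem_centralizer_iff.1 hn.2 y (c.syl_le_Gx o.sylA hyE)).symm)
    exact (Subgroup.mem_centralizer_singleton_iff.1 (hle hn)).symm
  have h6M : z ^ 6 ∈ M := by
    have h1 : ⁅u, q⁆ ∈ M := Subgroup.mem_sup_left (comm_mem_fr _ huD.1 hqQ)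
    have h2 := Subgroup.mul_mem M (Subgroup.inv_mem _ h1) (Subgroup.mem_sup_right hn0)
    rwa [inv_mul_cancel_left] at h2
  have h6 := central_of_centralized o.sylA hMn hyE hyQ hMy h6M (pow_mem hzZ 6)
  rw [hzdef, ← o.T_pow hy (o.Va_le_D hv)] at h6
  have h61 := comm_eq_one_of_central o.sylA (pow_mem hv 6) hyE h6
  rw [o.T_pow hy (o.Va_le_D hv), ← hzdef] at h61
  have := pow_gcd_eq_one.2 (And.intro h61 hzp)
  rw [hp6.gcd_eq_one, pow_one] at this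
  exact hne this

end Pair

theorem IsB.false_of_two (hk : c.IsB 2) {P : ℕ → c.Vtx} {E : ℕ → Subgroup Γ} (hc : c.IsCrit 2 P E) : False := by
  obtain ⟨h, g, o⟩ := hk.exists_pair hc
  exact o.elim

end Conf

end CfsgLib.PushPair39
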