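import Cfsg.Agent.PushPair39.One
import Cfsg.Agent.PushPair39.PairFive

/-!
No configuration has a critical path; hence the abelian subgroup of largest measure in the component of the
modules is normal in every group, and its centralizer in `S` is the second member of a pushing up pair.
-/

set_option autoImplicit false
set_option maxHeartbeats 400000
set_option linter.unusedSectionVars false

open CfsgLib.PushingUp44 (cj mem_cj cj_one cj_inf cj_iSup cj_centralizer cj_mono cj_eq_of_le_normalizer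
  le_normalizer_of_conj_le)
open CfsgLib.CentrallyLarge (cen)

namespace CfsgLib.PushPair39

namespace Conf

variable {Γ : Type*} [Group Γ] {ι : Type*} {c : Conf Γ ι}

theorem Near.trans {i j : ℕ} {u v w : c.Vtx} (h : c.Near j u v) (h' : c.Near i v w) :
    c.Near (i + j) u w := by
  induction j generalizing u with
  | zero =>
    obtain ⟨P, E, -, h0, hj⟩ := h
    rw [← h0, hj]
    exact h'
  | succ j ih =>
    obtain ⟨P, E, hP, h0, hj⟩ := h
    have h1 := hP.near (a := 1) (b := j + 1) (by omega) le_rfl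
    rw [show j + 1 - 1 = j by omega, hj] at h1
    have := Near.cons (hP 0 (by omega)) (ih h1)
    rwa [h0] at this

variable [Finite Γ]

/-- No path is critical. -/
theorem near_le {j : ℕ} {v w : c.Vtx} (h : c.Near j v w) : c.Vx w ≤ c.Qx v := by
  by_contra hn
  classical
  have hex : ∃ k, ∃ v w : c.Vtx, c.Near k v w ∧ ¬ c.Vx w ≤ c.Qx v := ⟨j, v, w, h, hn⟩
  set k := Nat.find hex with hk
  obtain ⟨v', w', ⟨P, E, hP, h0, hend⟩, hn'⟩ := Nat.find_spec hex
  have hc : c.IsCrit k P E := ⟨hP, by rw [h0, hend]; exact hn'⟩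
  have hpos : 1 ≤ k := by
    by_contra hk0
    rw [show Nat.find hex = 0 by omega] at hend
    exact hn' (by rw [← hend, h0]; exact c.Vx_le_Qx _)
  have hB : c.IsB k := ⟨hpos, fun hlt hnear => by
    by_contra hcon
    exact Nat.find_min hex hlt ⟨_, _, hnear, hcon⟩⟩
  have h2 := hB.le_two hc
  obtain h1 | h2 : k = 1 ∨ k = 2 := by omega
  · rw [h1] at hc hB
    exact hB.false_of_one hc
  · rw [h2] at hc hB
    exact hB.false_of_two hc

theorem exists_large (c : Conf Γ ι) [Finite ι] :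
    ∃ X : Subgroup Γ, X ≤ c.S ∧ Zc c.S ≤ X ∧
      Subgroup.normalizer (c.S : Set Γ) ≤ Subgroup.normalizer (X : Set Γ) ∧
      (∀ i, c.G i ≤ Subgroup.normalizer (X : Set Γ)) ∧
      Nat.card X * Nat.card (X ⊓ Subgroup.centralizer (X : Set Γ) : Subgroup Γ) = c.f := by
  set v0 : c.Vtx := (c.base, 1) with hv0
  have hsyl : ∀ i, c.Syl ((i, 1) : c.Vtx) c.S := fun i => ⟨1, by simp, (cj_one _).symm⟩
  -- the component
  have hstep : ∀ i, ∀ a ∈ Subgroup.normalizer (c.S : Set Γ), c.Step v0 (i, a) c.S := fun i a ha =>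
    ⟨1, a, ha, by simp [hv0], by simp, (cj_one _).symm⟩
  set W : Subgroup Γ := ⨆ w : {w : c.Vtx // ∃ j, c.Near j v0 w}, c.Vx w.1 with hW
  have hle : ∀ {w : c.Vtx}, (∃ j, c.Near j v0 w) → c.Vx w ≤ W := fun {w} hw =>
    le_iSup_of_le (⟨w, hw⟩ : {w : c.Vtx // ∃ j, c.Near j v0 w}) le_rfl
  have hWS : W ≤ c.S := iSup_le fun w => by
    obtain ⟨j, hj⟩ := w.2
    exact (near_le hj).trans (c.Qx_le_syl (hsyl c.base))
  have hWab : W ≤ Subgroup.centralizer (W : Set Γ) := iSup_le fun w => by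
    rw [Subgroup.le_centralizer_iff]
    refine iSup_le fun w' => ?_
    obtain ⟨j, hj⟩ := w.2
    obtain ⟨j', hj'⟩ := w'.2
    exact (near_le (hj.symm.trans hj')).trans (c.Qx_le_centralizer _)
  have hWx : ∀ x : Γ, (∃ j, c.Near j v0 (c.act x v0)) → cj x W ≤ W := by
    rintro x ⟨j, hj⟩
    rw [hW, cj_iSup]
    refine iSup_le fun w => ?_
    rw [← Vx_act]
    obtain ⟨i, hi⟩ := w.2
    exact hle ⟨_, hj.trans (hi.act x)⟩
  have hN : ∀ x ∈ Subgroup.normalizer (c.S : Set Γ), cj x W ≤ W := fun x hx => hWx x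
    ⟨1, Near.cons (hstep c.base x hx) (by simpa [Conf.act, hv0] using near_self (c := c) ((c.base, x) : c.Vtx))⟩
  have hG : ∀ i, ∀ x ∈ c.G i, cj x W ≤ W := fun i x hx => by
    have h1 : c.Near 1 v0 (i, 1) := Near.cons (hstep i 1 (one_mem _)) (near_self _)
    have h2 : c.Near 1 (i, 1) (c.act x (i, 1)) :=
      Near.cons ⟨1, 1, one_mem _, by simp, by simpa [Conf.act] using inv_mem hx, (cj_one _).symm⟩
        (near_self (c.act x ((i, 1) : c.Vtx)))
    exact hWx x ⟨_, (h1.trans h2).trans (h1.symm.act x)⟩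
  -- the modules have largest measure
  have hV : ∀ i, c.IsMem c.S (c.V i) ∧ c.V i ≤ W ∧ c.S ⊓ cen (c.V i) ≤ c.Q i := by
    intro i
    have hVx : c.Vx ((i, 1) : c.Vtx) = c.V i := cj_one _
    have hQx : c.Qx ((i, 1) : c.Vtx) = c.Q i := cj_one _
    have hVW := hle ⟨1, Near.cons (hstep i 1 (one_mem _)) (near_self ((i, 1) : c.Vtx))⟩
    rw [hVx] at hVW
    obtain ⟨⟨-, hQf⟩, hQc⟩ := isMem_core (hsyl i)
    rw [hVx] at hQc
    rw [hQc, hQx] at hQf
    refine ⟨⟨hVW.trans hWS, le_antisymm (edge_f_le (hsyl i) (hVW.trans hWS)) ?_⟩, hVW, fun a ha => ?_⟩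
    · rw [← hQf, mul_comm]
      exact Nat.mul_le_mul_left _ (Subgroup.card_le_of_le (le_inf (c.Q_le i) (c.commVQ i)))
    · by_contra haQ
      have h1 := c.bound i a ha.1 haQ
      have h2 : c.V i ≤ c.V i ⊓ Subgroup.centralizer ({a} : Set Γ) := fun v hv =>
        ⟨hv, Subgroup.mem_centralizer_singleton_iff.2 (Subgroup.mem_centralizer_iff.1 ha.2 v hv)⟩
      rw [Subgroup.relIndex_eq_one.2 h2] at h1
      exact absurd (c.one_lt i) (not_lt.2 h1)
  -- the greatest one inside the component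
  obtain ⟨X0, hX0max⟩ := (Set.toFinite {X : Subgroup Γ | c.IsMem c.S X ∧ X ≤ W}).exists_maximal
    ⟨c.V c.base, (hV c.base).1, (hV c.base).2.1⟩
  obtain ⟨hX0, hX0W⟩ := hX0max.prop
  have hgr : ∀ H, c.IsMem c.S H → H ≤ W → H ≤ X0 := fun H hH hHW =>
    le_sup_right.trans (hX0max.le_of_ge
      ⟨(IsMem.lattice (hsyl c.base) hX0 hH).1, sup_le hX0W hHW⟩ le_sup_left)
  have hNX : Subgroup.normalizer (c.S : Set Γ) ≤ Subgroup.normalizer (X0 : Set Γ) :=
    le_normalizer_of_conj_le fun x hx => by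
      have h1 := hX0.cj x
      rw [cj_eq_of_le_normalizer hx] at h1
      exact hgr _ h1 ((cj_mono x hX0W).trans (hN x hx))
  have hcQ : ∀ i, c.S ⊓ cen X0 ≤ c.Q i := fun i =>
    (inf_le_inf_left _ (Subgroup.centralizer_le (SetLike.coe_subset_coe.2 (hgr _ (hV i).1 (hV i).2.1)))).trans
      (hV i).2.2
  have hGX : ∀ i, c.G i ≤ Subgroup.normalizer (X0 : Set Γ) := fun i => le_normalizer_of_conj_le fun x hx => by
    have hVle : c.V i ≤ cj x X0 := by
      rw [← cj_eq_of_le_normalizer (c.normV i hx)]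
      exact cj_mono x (hgr _ (hV i).1 (hV i).2.1)
    have hW' : cj x X0 ≤ W := (cj_mono x hX0W).trans (hG i x hx)
    refine hgr _ ⟨hW'.trans hWS, ?_⟩ hW'
    have e1 : c.S ⊓ cen (cj x X0) = c.Q i ⊓ cen (cj x X0) := le_antisymm
      (le_inf ((inf_le_inf_left _ (Subgroup.centralizer_le (SetLike.coe_subset_coe.2 hVle))).trans (hV i).2.2)
        inf_le_right) (inf_le_inf_right _ (c.Q_le i))
    have e2 : c.S ⊓ cen X0 = c.Q i ⊓ cen X0 :=
      le_antisymm (le_inf (hcQ i) inf_le_right) (inf_le_inf_right _ (c.Q_le i))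
    rw [e1, show c.Q i ⊓ cen (cj x X0) = cj x (c.Q i ⊓ cen X0) by
      rw [cj_inf, cen, cen, cj_centralizer, cj_eq_of_le_normalizer (c.normQ i hx)], card_cj, card_cj, ← e2]
    exact hX0.2
  -- its centralizer
  set X := c.S ⊓ cen X0 with hX
  have hX0X : X0 ≤ X := le_inf hX0.1
    ((hX0W.trans hWab).trans (Subgroup.centralizer_le (SetLike.coe_subset_coe.2 hX0W)))
  have hXX : X ⊓ Subgroup.centralizer (X : Set Γ) = X0 := by
    have h1 : X0 ≤ c.S ⊓ cen X := le_inf hX0.1 (Subgroup.le_centralizer_iff.1 inf_le_right)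
    have h2 := edge_f_le (hsyl c.base) (inf_le_left : X ≤ c.S)
    rw [← hX0.2, ← hX, mul_comm (Nat.card X0)] at h2
    have h3 : X0 = c.S ⊓ cen X :=
      Subgroup.eq_of_le_of_card_ge h1 (Nat.le_of_mul_le_mul_left h2 Nat.card_pos)
    exact le_antisymm ((inf_le_inf_right _ inf_le_left).trans h3.ge) (le_inf hX0X (h1.trans inf_le_right))
  refine ⟨X, inf_le_left, inf_le_inf_left _ (Subgroup.centralizer_le (SetLike.coe_subset_coe.2 hX0.1)), ?_,
    fun i => ?_, by rw [hXX, mul_comm]; exact hX0.2⟩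
  · refine le_normalizer_of_conj_le fun x hx => ?_
    rw [hX, cj_inf, cen, cj_centralizer, cj_eq_of_le_normalizer hx, cj_eq_of_le_normalizer (hNX hx)]
  · refine le_normalizer_of_conj_le fun x hx => ?_
    have e2 : X = c.Q i ⊓ cen X0 :=
      le_antisymm (le_inf (hcQ i) inf_le_right) (inf_le_inf_right _ (c.Q_le i))
    rw [e2, cj_inf, cen, cj_centralizer, cj_eq_of_le_normalizer (c.normQ i hx),
      cj_eq_of_le_normalizer (hGX i hx)]

end Conf

end CfsgLib.PushPair39
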