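import Cfsg.Agent.PushingUp44.MinimalCLNormal
import Cfsg.Agent.PushingUp44.CharSub

/-!
The subgroups of a `p`-group used in pushing up pairs commute with isomorphisms; in particular they are
characteristic.
-/

set_option autoImplicit false

open Cfsg
open CfsgLib.CentrallyLarge
open CfsgLib.PushingUp44

namespace CfsgLib.PushPair39

variable {S T : Type*} [Group S] [Group T]

theorem map_cen (e : S ≃* T) (X : Subgroup S) :
    (cen X).map e.toMonoidHom = cen (X.map e.toMonoidHom) := by
  ext y
  obtain ⟨x, rfl⟩ := e.surjective y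
  rw [Subgroup.mem_map_equiv, MulEquiv.symm_apply_apply, Subgroup.mem_centralizer_iff,
    Subgroup.mem_centralizer_iff]
  constructor
  · rintro hx _ ⟨z, hz, rfl⟩
    show e z * e x = e x * e z
    rw [← map_mul, ← map_mul, hx z hz]
  · intro hx z hz
    apply e.injective
    rw [map_mul, map_mul]
    exact hx _ ⟨z, hz, rfl⟩

theorem map_center' (e : S ≃* T) : (Subgroup.center S).map e.toMonoidHom = Subgroup.center T := by
  have h : ∀ (P : Type _) [Group P], Subgroup.center P = cen (⊤ : Subgroup P) := fun P _ => by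
    rw [cen, Subgroup.coe_top, Subgroup.centralizer_univ]
  rw [h S, map_cen, Subgroup.map_top_of_surjective _ e.surjective]
  rw [cen, Subgroup.coe_top, Subgroup.centralizer_univ]

theorem map_maxAb (e : S ≃* T) {A : Subgroup S} (hA : A ∈ maxAbelianSubgroups S) :
    A.map e.toMonoidHom ∈ maxAbelianSubgroups T := by
  obtain ⟨hab, hmax⟩ := hA
  haveI := hab
  refine ⟨Subgroup.map_isMulCommutative _ _, fun B hB => ?_⟩
  haveI := hB
  rw [Subgroup.card_map_of_injective e.injective, ← Subgroup.card_map_of_injective (K := B) (f := e.symm.toMonoidHom) e.symm.injective]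
  exact hmax _ (Subgroup.map_isMulCommutative _ e.symm.toMonoidHom)

theorem map_map_symm (e : S ≃* T) (Y : Subgroup T) :
    (Y.map e.symm.toMonoidHom).map e.toMonoidHom = Y := by
  ext y
  simp [Subgroup.mem_map_equiv]

theorem map_thompsonA (e : S ≃* T) :
    (thompsonSubgroupA S).map e.toMonoidHom = thompsonSubgroupA T := by
  refine le_antisymm ?_ (sSup_le fun B hB => ?_)
  · rw [Subgroup.map_le_iff_le_comap]
    refine sSup_le fun A hA => ?_
    rw [← Subgroup.map_le_iff_le_comap]
    exact le_sSup (map_maxAb e hA)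
  · rw [← map_map_symm e B]
    exact Subgroup.map_mono (le_sSup (map_maxAb e.symm hB))

theorem map_jTilde (e : S ≃* T) : (jTilde S).map e.toMonoidHom = jTilde T := by
  rw [jTilde, jTilde, map_cen, Subgroup.map_inf _ _ _ e.injective, map_cen, map_thompsonA]

theorem card_center_map (e : S ≃* T) (R : Subgroup S) :
    Nat.card ↥(R.map e.toMonoidHom) * Nat.card ↥(Subgroup.center ↥(R.map e.toMonoidHom)) =
      Nat.card R * Nat.card ↥(Subgroup.center R) := by
  rw [card_center, card_center, ← map_cen, ← Subgroup.map_inf _ _ _ e.injective,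
    Subgroup.card_map_of_injective e.injective, Subgroup.card_map_of_injective e.injective]

theorem maxCentralProduct_congr (e : S ≃* T) : maxCentralProduct S = maxCentralProduct T := by
  rw [maxCentralProduct, maxCentralProduct]
  congr 1
  ext k
  constructor
  · rintro ⟨R, rfl⟩
    exact ⟨_, card_center_map e R⟩
  · rintro ⟨R, rfl⟩
    exact ⟨_, card_center_map e.symm R⟩

theorem isCentrallyLarge_map (e : S ≃* T) {R : Subgroup S} (hR : IsCentrallyLarge R) :
    IsCentrallyLarge (R.map e.toMonoidHom) := by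
  show _ = _
  rw [card_center_map, ← maxCentralProduct_congr e]
  exact hR

theorem isMinimalCentrallyLarge_map (e : S ≃* T) {R : Subgroup S} (hR : IsMinimalCentrallyLarge R) :
    IsMinimalCentrallyLarge (R.map e.toMonoidHom) := by
  refine ⟨isCentrallyLarge_map e hR.1, fun K hK hKc => ?_⟩
  have h1 : K.map e.symm.toMonoidHom = R := by
    refine hR.2 _ ?_ (isCentrallyLarge_map e.symm hKc)
    intro x hx
    rw [Subgroup.mem_map_equiv, MulEquiv.symm_symm] at hx
    obtain ⟨r, hr, he⟩ := hK hx
    rwa [← e.injective he]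
  rw [← map_map_symm e K, h1]

theorem map_minimalCLJoin (e : S ≃* T) :
    (minimalCentrallyLargeJoin S).map e.toMonoidHom = minimalCentrallyLargeJoin T := by
  refine le_antisymm ?_ (sSup_le fun B hB => ?_)
  · rw [Subgroup.map_le_iff_le_comap]
    refine sSup_le fun A hA => ?_
    rw [← Subgroup.map_le_iff_le_comap]
    exact le_sSup (isMinimalCentrallyLarge_map e hA)
  · rw [← map_map_symm e B]
    exact Subgroup.map_mono (le_sSup (isMinimalCentrallyLarge_map e.symm hB))

theorem card_omegaOneCenter_map (e : S ≃* T) (p : ℕ) (Q : Subgroup S) :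
    Nat.card ↥(omegaOneCenter p (Q.map e.toMonoidHom)) = Nat.card ↥(omegaOneCenter p Q) := by
  rw [← Subgroup.card_map_of_injective (K := omegaOneCenter p Q) (f := e.toMonoidHom) e.injective]
  refine congrArg (fun X : Subgroup T => Nat.card X) ?_
  ext y
  obtain ⟨x, rfl⟩ := e.surjective y
  rw [Subgroup.mem_map_equiv, MulEquiv.symm_apply_apply, mem_omegaOneCenter, mem_omegaOneCenter,
    ← map_cen, ← Subgroup.map_inf _ _ _ e.injective, Subgroup.mem_map_equiv, MulEquiv.symm_apply_apply,
    ← map_pow, MulEquiv.map_eq_one_iff]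

theorem maxOmegaCenter_congr (e : S ≃* T) (p : ℕ) :
    maxOmegaCenterOfMinimalCL p S = maxOmegaCenterOfMinimalCL p T := by
  rw [maxOmegaCenterOfMinimalCL, maxOmegaCenterOfMinimalCL]
  congr 1
  ext k
  constructor
  · rintro ⟨R, hR, rfl⟩
    exact ⟨_, isMinimalCentrallyLarge_map e hR, card_omegaOneCenter_map e p R⟩
  · rintro ⟨R, hR, rfl⟩
    exact ⟨_, isMinimalCentrallyLarge_map e.symm hR, card_omegaOneCenter_map e.symm p R⟩

theorem map_frattiniJoin_le (e : S ≃* T) (p : ℕ) :
    (frattiniOfMinimalCLJoin p S).map e.toMonoidHom ≤ frattiniOfMinimalCLJoin p T := by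
  rw [Subgroup.map_le_iff_le_comap]
  refine iSup_le fun ⟨Q, hQ, hsel⟩ => ?_
  rw [← Subgroup.map_le_iff_le_comap]
  refine le_iSup_of_le ⟨Q.map e.toMonoidHom, isMinimalCentrallyLarge_map e hQ, ?_⟩ ?_
  · rw [card_omegaOneCenter_map, hsel, maxOmegaCenter_congr e]
  rintro _ ⟨_, ⟨x, hx, rfl⟩, rfl⟩
  exact ⟨e.subgroupMap Q x,
    CfsgLib.FStarQuot.map_frattini_le (e.subgroupMap Q).toMonoidHom (e.subgroupMap Q).surjective
      ⟨x, hx, rfl⟩, rfl⟩

theorem map_frattiniJoin (e : S ≃* T) (p : ℕ) :
    (frattiniOfMinimalCLJoin p S).map e.toMonoidHom = frattiniOfMinimalCLJoin p T := by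
  refine le_antisymm (map_frattiniJoin_le e p) ?_
  have h := Subgroup.map_mono (f := e.toMonoidHom) (map_frattiniJoin_le e.symm p)
  rwa [map_map_symm] at h

theorem map_powerClosure (e : S ≃* T) (p k : ℕ) (H : Subgroup S) :
    (powerClosure p k H).map e.toMonoidHom = powerClosure p k (H.map e.toMonoidHom) :=
  (powerClosure_map e.toMonoidHom p k H).symm

theorem characteristic_minimalCLJoin : (minimalCentrallyLargeJoin S).Characteristic :=
  Subgroup.characteristic_iff_map_eq.2 map_minimalCLJoin

theorem characteristic_frattiniJoin (p : ℕ) : (frattiniOfMinimalCLJoin p S).Characteristic :=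
  Subgroup.characteristic_iff_map_eq.2 fun φ => map_frattiniJoin φ p

/-- A characteristic subgroup of a characteristic subgroup is characteristic. -/
theorem characteristic_map_subtype {H : Subgroup S} [H.Characteristic] (K : Subgroup H) [hK : K.Characteristic] :
    (K.map H.subtype).Characteristic := by
  rw [Subgroup.characteristic_iff_map_le]
  intro φ
  rintro _ ⟨_, ⟨x, hx, rfl⟩, rfl⟩
  have hH : ∀ y : S, y ∈ H ↔ φ y ∈ H := fun y => by
    have h := Subgroup.characteristic_iff_comap_eq.1 (inferInstance : H.Characteristic) φ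
    conv_lhs => rw [← h]
    rfl
  let ψ : H ≃* H :=
    { toFun := fun y => ⟨φ y, (hH y).1 y.2⟩
      invFun := fun y => ⟨φ.symm y, (hH _).2 (by simp)⟩
      left_inv := fun y => by ext; simp
      right_inv := fun y => by ext; simp
      map_mul' := fun a b => by ext; simp }
  exact ⟨ψ x, (Subgroup.characteristic_iff_map_eq.1 hK ψ) ▸ ⟨x, hx, rfl⟩, rfl⟩

theorem subgroupOf_characteristic {K H : Subgroup S} [hK : K.Characteristic] (hH : H = ⊤) :
    (K.subgroupOf H).Characteristic := by
  subst hH
  rw [Subgroup.characteristic_iff_map_le]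
  intro φ
  rintro _ ⟨x, hx, rfl⟩
  set ψ : S ≃* S := (Subgroup.topEquiv.symm.trans φ).trans Subgroup.topEquiv with hψ
  have h := Subgroup.characteristic_iff_map_le.1 hK ψ ⟨(x : S), hx, rfl⟩
  exact h

end CfsgLib.PushPair39
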