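import Cfsg.Agent.PushPair39.Torus
import Cfsg.Agent.PushPair39.Transfer
import Cfsg.Agent.Eq.Def_BaumannBlocks

/-!
A finite family of pushing up situations with one Sylow subgroup `S`, inside one finite symmetric group in
which every automorphism of `S` is induced.
-/

set_option autoImplicit false
set_option linter.style.haveILetI false

universe u

open Cfsg
open scoped MatrixGroups commutatorElement
open CfsgLib.CentrallyLarge
open CfsgLib.PushingUp44
open CfsgLib.PushingUp (Hyp)

namespace CfsgLib.PushPair39

/-- The word subgroup of the pushing up pair, with Frattini subgroups. -/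
def word (p : ℕ) (S : Type*) [Group S] : Subgroup S :=
  if p = 2 then ⁅frattini S, (⊤ : Subgroup S)⁆ ⊔ (frattini ↥(frattini S)).map (frattini S).subtype
  else if p = 3 then
    ⁅⁅frattini S, (⊤ : Subgroup S)⁆, (⊤ : Subgroup S)⁆ ⊔ (frattini ↥(frattini S)).map (frattini S).subtype
  else ⁅frattini S, (⊤ : Subgroup S)⁆ ⊔ powerClosure p 1 (⊤ : Subgroup S)

/-- The central part of the word subgroup. -/
def wordCenter (p : ℕ) (S : Type*) [Group S] : Subgroup S := word p S ⊓ Subgroup.center S

/-- A pushing up situation over `PSL₂` with Sylow subgroup isomorphic to `S`. -/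
structure Member (p : ℕ) (S : Type u) [Group S] : Type (u + 1) where
  G : Type u
  [grp : Group G]
  [fin : Finite G]
  P : Sylow p G
  F : Type
  [fld : Field F]
  [ft : Fintype F]
  π : G →* Matrix.ProjectiveSpecialLinearGroup (Fin 2) F
  n : ℕ
  hyp : Hyp P π n
  e : S ≃* ↥(P : Subgroup G)

attribute [instance] Member.grp Member.fin Member.fld Member.ft

variable {p : ℕ} {S : Type u} [Group S]

namespace Member

variable (m : Member p S)

/-- The embedding of `S`. -/
def τ : S →* m.G := ((m.P : Subgroup m.G).subtype).comp m.e.toMonoidHom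

theorem τ_injective : Function.Injective m.τ := fun _ _ h => m.e.injective (Subtype.ext h)

theorem map_τ (X : Subgroup S) :
    X.map m.τ = (X.map m.e.toMonoidHom).map (m.P : Subgroup m.G).subtype := (Subgroup.map_map _ _ _).symm

theorem range_τ : (⊤ : Subgroup S).map m.τ = (m.P : Subgroup m.G) := by
  rw [m.map_τ, Subgroup.map_top_of_surjective _ m.e.surjective, ← MonoidHom.range_eq_map,
    Subgroup.range_subtype]

theorem τ_mem (s : S) : m.τ s ∈ (m.P : Subgroup m.G) := (m.e s).2

theorem zSyl_eq : zSyl m.P = (Subgroup.center S).map m.τ := by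
  rw [m.map_τ, map_center', ← inf_centralizer_self]; rfl

/-- The part of `S` in the core. -/
theorem exists_not_mem (A : Subgroup S) (h : ¬ A.map m.τ ≤ pCore p m.G) :
    ∃ a ∈ A, m.τ a ∉ pCore p m.G := by
  obtain ⟨x, hx, hxO⟩ := SetLike.not_le_iff_exists.1 h
  obtain ⟨a, ha, rfl⟩ := hx
  exact ⟨a, ha, hxO⟩

end Member

/-- Standing hypotheses of the remaining case. -/
structure Standing (p : ℕ) (S : Type*) [Group S] : Prop where
  pgroup : IsPGroup p S
  jTilde_top : jTilde S = ⊤
  center_pow : ∀ z ∈ Subgroup.center S, z ^ p = 1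
  mcl_comm : ∀ Q : Subgroup S, IsMinimalCentrallyLarge Q → IsMulCommutative Q

namespace Standing

variable [Finite S] [Fact p.Prime] (st : Standing p S)
include st

theorem mcl_iff (X : Subgroup S) : IsMinimalCentrallyLarge X ↔ X ∈ maxAbelianSubgroups S := by
  obtain ⟨R, hR⟩ := exists_isCentrallyLarge (G := S)
  obtain ⟨Q, -, hQ⟩ := exists_minimal_le hR
  exact (Cfsg.Agent.S3007.result S st.pgroup Q Q hQ hQ).2.2.2.2 (st.mcl_comm Q hQ) X

theorem thompson_top : thompsonSubgroupA S = ⊤ := by
  have hJ : IsCentrallyLarge (thompsonSubgroupA S) := by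
    have e : thompsonSubgroupA S = minimalCentrallyLargeJoin S := by
      rw [thompsonSubgroupA, minimalCentrallyLargeJoin]
      congr 1
      ext X
      exact (st.mcl_iff X).symm
    rw [e]
    exact isCentrallyLarge_minimalCentrallyLargeJoin
  refine top_le_iff.1 (st.jTilde_top.ge.trans ?_)
  exact cen_centerThompson_le hJ le_rfl

theorem top_large : IsCentrallyLarge (⊤ : Subgroup S) := by
  obtain ⟨A, hA⟩ := exists_maxAbelian (G := S)
  rw [← st.thompson_top]
  exact isCentrallyLarge_sSup ⟨A, hA⟩ fun R hR => ((st.mcl_iff R).2 hR).1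

theorem maxCentralProduct_eq' :
    maxCentralProduct S = Nat.card S * Nat.card ↥(Subgroup.center S) := by
  rw [← show _ = maxCentralProduct S from st.top_large, Subgroup.card_top, card_center, top_inf_eq, cen,
    Subgroup.coe_top, Subgroup.centralizer_univ]

theorem card_mul_cen_le (X : Subgroup S) :
    Nat.card X * Nat.card (cen X) ≤ Nat.card S * Nat.card ↥(Subgroup.center S) := by
  rw [← st.maxCentralProduct_eq', CfsgLib.CentrallyLarge.maxCentralProduct_eq]
  exact le_maxCentralizerProduct X

theorem card_sq {A : Subgroup S} (hA : A ∈ maxAbelianSubgroups S) :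
    Nat.card A ^ 2 = Nat.card S * Nat.card ↥(Subgroup.center S) := by
  rw [← st.maxCentralProduct_eq', ← show _ = maxCentralProduct S from ((st.mcl_iff A).2 hA).1, card_center,
    cen_eq_self hA, inf_idem, sq]

/-- Some abelian subgroup of largest order leaves the core. -/
theorem exists_offender (m : Member p S) :
    ∃ A ∈ maxAbelianSubgroups S, ¬ A.map m.τ ≤ pCore p m.G := by
  by_contra hcon
  push Not at hcon
  apply m.hyp.not_sylow_le_pCore
  rw [← m.range_τ, ← st.thompson_top, thompsonSubgroupA, Subgroup.map_le_iff_le_comap]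
  exact sSup_le fun A hA => Subgroup.map_le_iff_le_comap.1 (hcon A hA)

theorem zSyl_pow (m : Member p S) : ∀ z ∈ zSyl m.P, z ^ p = 1 := by
  rw [m.zSyl_eq]
  rintro _ ⟨z, hz, rfl⟩
  rw [← map_pow, st.center_pow z hz, map_one]

end Standing

/-! ### Images of subgroups -/

theorem inf_centralizer_image {A B : Type*} [Group A] [Group B] {f : A →* B} (hf : Function.Injective f)
    (H K : Subgroup A) :
    H.map f ⊓ Subgroup.centralizer ((K.map f : Subgroup B) : Set B) =
      (H ⊓ Subgroup.centralizer (K : Set A)).map f := by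
  ext y
  constructor
  · rintro ⟨⟨x, hx, rfl⟩, hy⟩
    refine ⟨x, ⟨hx, Subgroup.mem_centralizer_iff.2 fun k hk => hf ?_⟩, rfl⟩
    rw [map_mul, map_mul]
    exact Subgroup.mem_centralizer_iff.1 hy _ (Subgroup.mem_map_of_mem f hk)
  · rintro ⟨x, ⟨hx, hxc⟩, rfl⟩
    refine ⟨Subgroup.mem_map_of_mem f hx, Subgroup.mem_centralizer_iff.2 ?_⟩
    rintro _ ⟨k, hk, rfl⟩
    rw [← map_mul, ← map_mul, Subgroup.mem_centralizer_iff.1 hxc k hk]

theorem inf_centralizer_singleton_image {A B : Type*} [Group A] [Group B] {f : A →* B}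
    (hf : Function.Injective f) (H : Subgroup A) (a : A) :
    H.map f ⊓ Subgroup.centralizer ({f a} : Set B) = (H ⊓ Subgroup.centralizer ({a} : Set A)).map f := by
  ext y
  constructor
  · rintro ⟨⟨x, hx, rfl⟩, hy⟩
    refine ⟨x, ⟨hx, Subgroup.mem_centralizer_singleton_iff.2 (hf ?_)⟩, rfl⟩
    rw [map_mul, map_mul]
    exact Subgroup.mem_centralizer_singleton_iff.1 hy
  · rintro ⟨x, ⟨hx, hxc⟩, rfl⟩
    refine ⟨Subgroup.mem_map_of_mem f hx, Subgroup.mem_centralizer_singleton_iff.2 ?_⟩
    rw [← map_mul, ← map_mul, Subgroup.mem_centralizer_singleton_iff.1 hxc]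

theorem fr_map {A B : Type*} [Group A] [Group B] (f : A →* B) (p : ℕ) (H : Subgroup A) :
    fr p (H.map f) = (fr p H).map f := by
  rw [fr, fr, Subgroup.map_sup, powerClosure_map, Subgroup.map_commutator]

theorem wd_map {A B : Type*} [Group A] [Group B] (f : A →* B) (p : ℕ) (H : Subgroup A) :
    wd p (H.map f) = (wd p H).map f := by
  unfold wd
  split_ifs <;>
    simp only [Subgroup.map_sup, fr_map, Subgroup.map_commutator, powerClosure_map]

theorem fr_eq_frattini {A : Type*} [Group A] [Finite A] {p : ℕ} [Fact p.Prime] (hA : IsPGroup p A) :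
    fr p (⊤ : Subgroup A) = frattini A := by
  rw [CfsgLib.PGroup.frattini_eq_commutator_sup hA, fr, sup_comm, powerClosure, commutator_def]
  congr 2
  ext x
  simp [eq_comm]

theorem wd_eq_word [Finite S] [Fact p.Prime] (hS : IsPGroup p S) : wd p (⊤ : Subgroup S) = word p S := by
  have h1 := fr_eq_frattini hS
  have h2 : fr p (frattini S) = (frattini ↥(frattini S)).map (frattini S).subtype := by
    rw [← fr_eq_frattini (hS.to_subgroup _), ← fr_map, ← MonoidHom.range_eq_map, Subgroup.range_subtype]
  rw [wd, word, h1, h2]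

/-- A normaliser normalises the images of characteristic subgroups. -/
theorem normalizer_le_of_characteristic [Finite S] {Γ : Type*} [Group Γ] [Finite Γ] {f : S →* Γ}
    (hf : Function.Injective f) (X : Subgroup S) [hX : X.Characteristic] :
    Subgroup.normalizer (((⊤ : Subgroup S).map f : Subgroup Γ) : Set Γ) ≤
      Subgroup.normalizer ((X.map f : Subgroup Γ) : Set Γ) := by
  refine le_normalizer_of_conj_le fun γ hγ => ?_
  have hm : ∀ s, ∃ s' : S, f s' = γ * f s * γ⁻¹ := fun s => by
    obtain ⟨s', -, h⟩ := (Subgroup.mem_normalizer_iff.1 hγ _).1 (Subgroup.mem_map_of_mem f (Subgroup.mem_top s))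
    exact ⟨s', h⟩
  choose g hg using hm
  let φ₀ : S →* S := MonoidHom.mk' g fun a b => hf (by rw [hg, map_mul, map_mul, hg, hg]; group)
  have hinj : Function.Injective φ₀ := fun a b h => hf (by
    have h1 : f (g a) = f (g b) := congrArg f h
    rw [hg, hg] at h1
    exact mul_left_cancel (mul_right_cancel h1))
  let φ : S ≃* S := MulEquiv.ofBijective φ₀ ⟨hinj, Finite.surjective_of_injective hinj⟩
  rintro _ ⟨_, ⟨x, hx, rfl⟩, rfl⟩
  exact ⟨g x, Subgroup.characteristic_iff_map_le.1 hX φ ⟨x, hx, rfl⟩, hg x⟩

/-! ### The ambient group -/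

section Family

variable {ι : Type*} (mem : ι → Member p S)

/-- A right transversal of the Sylow subgroup of a member. -/
noncomputable def rep (i : ι) : Set (mem i).G :=
  Classical.choose (Subgroup.exists_isComplement_right ((mem i).P : Subgroup (mem i).G) 1)

theorem rep_spec (i : ι) :
    Subgroup.IsComplement (((mem i).P : Subgroup (mem i).G) : Set (mem i).G) (rep mem i) ∧ 1 ∈ rep mem i :=
  Classical.choose_spec (Subgroup.exists_isComplement_right ((mem i).P : Subgroup (mem i).G) 1)

/-- The coordinates of a member. -/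
noncomputable def repEquiv (i : ι) : (mem i).G ≃ S × rep mem i :=
  (rep_spec mem i).1.equiv.trans (Equiv.prodCongr (mem i).e.symm.toEquiv (Equiv.refl _))

theorem repEquiv_mul (i : ι) (t : S) (x : (mem i).G) :
    repEquiv mem i ((mem i).τ t * x) = (t * (repEquiv mem i x).1, (repEquiv mem i x).2) := by
  have e1 : (rep_spec mem i).1.equiv (((mem i).e t : (mem i).G) * x) =
      ((mem i).e t * ((rep_spec mem i).1.equiv x).1, ((rep_spec mem i).1.equiv x).2) :=
    (rep_spec mem i).1.equiv_mul_left _ x
  show Equiv.prodCongr _ _ ((rep_spec mem i).1.equiv (((mem i).e t : (mem i).G) * x)) = _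
  rw [e1]
  exact Prod.ext (by show (mem i).e.symm _ = _; rw [map_mul, MulEquiv.symm_apply_apply]; rfl) rfl

/-- The set on which all members act. -/
abbrev Pt : Type _ := S × ((i : ι) → rep mem i)

variable [DecidableEq ι]

/-- The action of a member on the common set. -/
noncomputable def move (i : ι) (x : (mem i).G) (a : Pt mem) : Pt mem :=
  let b := repEquiv mem i (x * (repEquiv mem i).symm (a.1, a.2 i))
  (b.1, Function.update a.2 i b.2)

theorem move_mul (i : ι) (x y : (mem i).G) (a : Pt mem) :
    move mem i (x * y) a = move mem i x (move mem i y a) := by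
  simp [move, mul_assoc]

theorem move_one (i : ι) (a : Pt mem) : move mem i 1 a = a := by simp [move]

/-- The embedding of a member. -/
noncomputable def memHom (i : ι) : (mem i).G →* Equiv.Perm (Pt mem) :=
  MonoidHom.mk' (fun x =>
    { toFun := move mem i x
      invFun := move mem i x⁻¹
      left_inv := fun a => by rw [← move_mul, inv_mul_cancel, move_one]
      right_inv := fun a => by rw [← move_mul, mul_inv_cancel, move_one] })
    fun x y => Equiv.ext fun a => move_mul mem i x y a

/-- The embedding of `S`. -/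
def baseHom : S →* Equiv.Perm (Pt mem) :=
  MonoidHom.mk' (fun t => Equiv.prodCongr (Equiv.mulLeft t) (Equiv.refl _))
    fun a b => Equiv.ext fun x => Prod.ext (mul_assoc a b x.1) rfl

theorem memHom_τ (i : ι) : (memHom mem i).comp (mem i).τ = baseHom mem := by
  refine MonoidHom.ext fun t => Equiv.ext fun a => ?_
  show move mem i ((mem i).τ t) a = (t * a.1, a.2)
  rw [move, repEquiv_mul, Equiv.apply_symm_apply, Function.update_eq_self]

theorem map_memHom (i : ι) (X : Subgroup S) :
    X.map (baseHom mem) = (X.map (mem i).τ).map (memHom mem i) := by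
  rw [Subgroup.map_map, memHom_τ]

omit [DecidableEq ι] in
theorem nonempty_pt : Nonempty (Pt mem) := ⟨(1, fun i => ⟨1, (rep_spec mem i).2⟩)⟩

theorem memHom_injective (i : ι) : Function.Injective (memHom mem i) := fun x y hxy => by
  obtain ⟨a⟩ := nonempty_pt mem
  have h1 := congrArg (fun σ : Equiv.Perm (Pt mem) => (σ a).1) hxy
  have h2 := congrArg (fun σ : Equiv.Perm (Pt mem) => (σ a).2 i) hxy
  simp only [memHom, MonoidHom.mk'_apply, Equiv.coe_fn_mk, move, Function.update_self] at h1 h2
  exact mul_right_cancel ((repEquiv mem i).injective (Prod.ext h1 h2))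

omit [DecidableEq ι] in
theorem baseHom_injective : Function.Injective (baseHom mem) := fun x y hxy => by
  obtain ⟨a⟩ := nonempty_pt mem
  exact mul_right_cancel (congrArg (fun σ : Equiv.Perm (Pt mem) => (σ a).1) hxy)

omit [DecidableEq ι] in
/-- Pulling back gives characteristic subgroups. -/
theorem characteristic_comap {X : Subgroup (Equiv.Perm (Pt mem))}
    (hX : Subgroup.normalizer (((⊤ : Subgroup S).map (baseHom mem) : Subgroup _) : Set (Equiv.Perm (Pt mem))) ≤
      Subgroup.normalizer (X : Set (Equiv.Perm (Pt mem)))) : (X.comap (baseHom mem)).Characteristic := by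
  rw [Subgroup.characteristic_iff_comap_eq]
  intro φ
  set σ : Equiv.Perm (Pt mem) := Equiv.prodCongr φ.toEquiv (Equiv.refl _) with hσ
  have hconj : ∀ t, σ * baseHom mem t * σ⁻¹ = baseHom mem (φ t) := fun t => by
    rw [mul_inv_eq_iff_eq_mul]
    refine Equiv.ext fun a => ?_
    show ((φ (t * a.1), a.2) : Pt mem) = (φ t * φ a.1, a.2)
    rw [map_mul]
  have hσN : σ ∈ Subgroup.normalizer (((⊤ : Subgroup S).map (baseHom mem) : Subgroup _) :
      Set (Equiv.Perm (Pt mem))) := by
    refine mem_normalizer_of_cj_eq (le_antisymm ?_ ?_)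
    · rintro _ ⟨_, ⟨t, -, rfl⟩, rfl⟩
      exact ⟨φ t, trivial, (hconj t).symm⟩
    · rintro _ ⟨t, -, rfl⟩
      exact ⟨baseHom mem (φ.symm t), Subgroup.mem_map_of_mem _ (Subgroup.mem_top _), by
        show σ * baseHom mem (φ.symm t) * σ⁻¹ = _
        rw [hconj, MulEquiv.apply_symm_apply]⟩
  ext t
  rw [Subgroup.mem_comap, Subgroup.mem_comap, Subgroup.mem_comap]
  show baseHom mem (φ t) ∈ X ↔ _
  rw [← hconj]
  exact (Subgroup.mem_normalizer_iff.1 (hX hσN) _).symm

/-- A subgroup normalised by the image of a member is normal in it. -/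
theorem normal_of_le_normalizer (i : ι) {X : Subgroup S}
    (h : (memHom mem i).range ≤
      Subgroup.normalizer ((X.map (baseHom mem) : Subgroup _) : Set (Equiv.Perm (Pt mem)))) :
    (X.map (mem i).τ).Normal := by
  refine ⟨fun x hx g => ?_⟩
  rw [← Subgroup.mem_map_iff_mem (memHom_injective mem i)] at hx ⊢
  rw [← map_memHom] at hx ⊢
  rw [map_mul, map_mul, map_inv]
  exact (Subgroup.mem_normalizer_iff.1 (h ⟨g, rfl⟩) _).1 hx

/-- The configuration of a family. -/
noncomputable def famConf [Finite S] [hp : Fact p.Prime] [Finite ι] (base : ι) (st : Standing p S)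
    (bad : ∀ i, ¬ (wordCenter p S).map (mem i).τ ≤ Subgroup.center (mem i).G) :
    Conf (Equiv.Perm (Pt mem)) ι where
  p := p
  prime := hp.out
  q i := p ^ (mem i).n
  f := Nat.card S * Nat.card ↥(Subgroup.center S)
  S := (⊤ : Subgroup S).map (baseHom mem)
  W := (wordCenter p S).map (baseHom mem)
  G i := (memHom mem i).range
  Q i := (pCore p (mem i).G).map (memHom mem i)
  V i := (vSyl (mem i).P).map (memHom mem i)
  M i := (mSyl (mem i).P (mem i).π).map (memHom mem i)
  base := base
  isP := (st.pgroup.to_subgroup (⊤ : Subgroup S)).map (baseHom mem)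
  one_lt i := Nat.one_lt_pow (by have := (mem i).hyp.one_le; omega) hp.out.one_lt
  le_G i := by rw [map_memHom mem i]; exact Subgroup.map_le_range _ _
  Q_le i := by
    rw [map_memHom mem i, (mem i).range_τ]
    exact Subgroup.map_mono (mem i).hyp.pCore_le_sylow
  V_le i := Subgroup.map_mono ((vSyl_le (mem i).hyp).trans inf_le_left)
  M_le i := Subgroup.map_le_range _ _
  exists_not_mem i := by
    obtain ⟨g, hg⟩ := exists_not_mem_mSyl (mem i).hyp
    exact ⟨_, ⟨g, rfl⟩, fun hgM => hg ((Subgroup.mem_map_iff_mem (memHom_injective mem i)).1 hgM)⟩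
  normQ i := by
    haveI := pCore_normal p (mem i).G
    rw [MonoidHom.range_eq_map]
    refine le_trans ?_ (Subgroup.le_normalizer_map _)
    rw [Subgroup.normalizer_eq_top_iff.2 inferInstance]
  normV i := by
    rw [MonoidHom.range_eq_map]
    refine le_trans ?_ (Subgroup.le_normalizer_map _)
    rw [Subgroup.normalizer_eq_top_iff.2 inferInstance]
  commVQ i := by
    rintro _ ⟨x, hx, rfl⟩
    rw [Subgroup.mem_centralizer_iff]
    rintro _ ⟨v, hv, rfl⟩
    rw [← map_mul, ← map_mul, Subgroup.mem_centralizer_iff.1 ((vSyl_le (mem i).hyp) hv).2 x hx]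
  elem i := by
    rintro _ ⟨v, hv, rfl⟩
    rw [← map_pow, vSyl_pow (mem i).hyp (st.zSyl_pow (mem i)) v hv, map_one]
  center_eq i := by
    rw [map_memHom mem i, (mem i).range_τ, inf_centralizer_image (memHom_injective mem i),
      inf_centralizer_image (memHom_injective mem i)]
    refine congrArg (fun X => Subgroup.map (memHom mem i) X) ?_
    refine le_antisymm (fun x hx => ⟨zSyl_le_vSyl hx, hx.2⟩) (inf_le_inf_right _
      (((vSyl_le (mem i).hyp).trans inf_le_left).trans (mem i).hyp.pCore_le_sylow))
  gen_V i U hU hle := by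
    rw [Zc, map_memHom mem i, (mem i).range_τ, inf_centralizer_image (memHom_injective mem i)] at hle
    rw [Subgroup.map_le_iff_le_comap] at hle ⊢
    haveI : (U.comap (memHom mem i)).Normal := ⟨fun x hx g => cj_mem_of_range hU hx g⟩
    exact Subgroup.normalClosure_le_normal hle
  bound i a ha haQ := by
    rw [map_memHom mem i, (mem i).range_τ] at ha
    obtain ⟨s, hs, rfl⟩ := ha
    have hsQ : s ∉ pCore p (mem i).G := fun h' => haQ (Subgroup.mem_map_of_mem _ h')
    have hnc : ¬ zSyl (mem i).P ≤ Subgroup.center (mem i).G := fun h => bad i (by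
      refine le_trans ?_ h
      rw [(mem i).zSyl_eq]
      exact Subgroup.map_mono inf_le_right)
    rw [inf_centralizer_singleton_image (memHom_injective mem i),
      Subgroup.relIndex_map_map_of_injective _ _ (memHom_injective mem i)]
    exact (mem i).hyp.le_relIndex (vSyl (mem i).P) (isPGroup_vSyl (mem i).hyp)
      (centralizer_vSyl_ne (mem i).hyp hnc) hs hsQ
  card_le i := by
    rw [map_memHom mem i, (mem i).range_τ,
      Subgroup.relIndex_map_map_of_injective _ _ (memHom_injective mem i), ← (mem i).hyp.inf_ker,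
      Subgroup.inf_relIndex_left, Subgroup.relIndex_ker]
    exact (mem i).hyp.card_map_le le_rfl
  gen i g hg hgM := by
    obtain ⟨g, rfl⟩ := hg
    rw [map_memHom mem i, (mem i).range_τ, cj, Subgroup.map_map,
      show ((MulAut.conj (memHom mem i g)).toMonoidHom.comp (memHom mem i)) =
        (memHom mem i).comp (MulAut.conj g).toMonoidHom from MonoidHom.ext fun x => by simp,
      ← Subgroup.map_map, ← Subgroup.map_sup, MonoidHom.range_eq_map]
    exact congrArg _ (sup_cj_sylow (mem i).hyp fun h' => hgM (Subgroup.mem_map_of_mem _ h'))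
  ti i g hg hgM := by
    obtain ⟨g, rfl⟩ := hg
    rw [map_memHom mem i, (mem i).range_τ, cj, Subgroup.map_map,
      show ((MulAut.conj (memHom mem i g)).toMonoidHom.comp (memHom mem i)) =
        (memHom mem i).comp (MulAut.conj g).toMonoidHom from MonoidHom.ext fun x => by simp,
      ← Subgroup.map_map, ← Subgroup.map_inf _ _ _ (memHom_injective mem i)]
    exact Subgroup.map_mono (cj_sylow_inf_mSyl (mem i).hyp fun h' => hgM (Subgroup.mem_map_of_mem _ h'))
  S_le_M i := by
    rw [map_memHom mem i, (mem i).range_τ]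
    exact Subgroup.map_mono sylow_le_mSyl
  f_le X hX := by
    obtain ⟨X₀, rfl⟩ : ∃ X₀ : Subgroup S, X₀.map (baseHom mem) = X :=
      ⟨X.comap (baseHom mem), Subgroup.map_comap_eq_self (hX.trans (Subgroup.map_le_range _ _))⟩
    rw [inf_centralizer_image (baseHom_injective mem), Subgroup.card_map_of_injective (baseHom_injective mem),
      Subgroup.card_map_of_injective (baseHom_injective mem), top_inf_eq]
    exact st.card_mul_cen_le X₀
  f_eq := by
    rw [Zc, inf_centralizer_image (baseHom_injective mem), Subgroup.card_map_of_injective (baseHom_injective mem),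
      Subgroup.card_map_of_injective (baseHom_injective mem), Subgroup.card_top, top_inf_eq, Subgroup.coe_top,
      Subgroup.centralizer_univ]
  exists_A i := by
    obtain ⟨A, hA, hAO⟩ := st.exists_offender (mem i)
    refine ⟨A.map (baseHom mem), Subgroup.map_mono le_top, ?_, ?_, fun h => hAO ?_⟩
    · rintro _ ⟨a, ha, rfl⟩
      rw [Subgroup.mem_centralizer_iff]
      rintro _ ⟨b, hb, rfl⟩
      rw [← map_mul, ← map_mul, le_cen_of_comm hA.1 ha b hb]
    · rw [Subgroup.card_map_of_injective (baseHom_injective mem), ← sq, st.card_sq hA]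
    · rw [map_memHom mem i] at h
      exact (Subgroup.map_le_map_iff_of_injective (memHom_injective mem i)).1 h
  W_le := by
    rw [Zc, inf_centralizer_image (baseHom_injective mem), top_inf_eq, Subgroup.coe_top,
      Subgroup.centralizer_univ]
    exact Subgroup.map_mono inf_le_right
  W_wd := by
    rw [wd_map, wd_eq_word st.pgroup]
    exact Subgroup.map_mono inf_le_left
  W_norm := by
    haveI : (wordCenter p S).Characteristic := by
      haveI : ((frattini ↥(frattini S)).map (frattini S).subtype).Characteristic :=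
        characteristic_map_subtype _
      haveI := characteristic_powerClosure p 1 (⊤ : Subgroup S)
      unfold wordCenter word
      split_ifs <;> infer_instance
    exact normalizer_le_of_characteristic (baseHom_injective mem) _
  killer i N hN hW := by
    haveI : (N.comap (memHom mem i)).Normal := ⟨fun x hx g => cj_mem_of_range hN hx g⟩
    haveI : (Subgroup.centralizer ((N.comap (memHom mem i) : Subgroup _) : Set (mem i).G)).Normal :=
      Subgroup.normal_centralizer
    intro x hx
    obtain ⟨hxS, hxc⟩ := hx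
    rw [map_memHom mem i, (mem i).range_τ] at hxS
    obtain ⟨s, hs, rfl⟩ := hxS
    refine Subgroup.mem_map_of_mem _ ((mem i).hyp.inf_le_pCore
      (N := Subgroup.centralizer ((N.comap (memHom mem i) : Subgroup _) : Set (mem i).G)) ?_ ⟨hs, ?_⟩)
    · intro htop
      refine bad i (CfsgLib.PushingUp.Hyp.le_center_of_sup htop ?_ ?_)
      · rw [← Subgroup.map_le_iff_le_comap, ← map_memHom]
        exact hW
      · refine (Subgroup.map_mono inf_le_right).trans ?_
        rw [← (mem i).zSyl_eq]
        exact inf_le_right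
    · refine Subgroup.mem_centralizer_iff.2 fun y hy => memHom_injective mem i ?_
      rw [map_mul, map_mul]
      exact Subgroup.mem_centralizer_iff.1 hxc _ hy
  torus i l hl P := by
    rw [map_memHom mem i, (mem i).range_τ] at P ⊢
    exact exists_torusLike (mem i).hyp (memHom mem i) (memHom_injective mem i) hl P

end Family

end CfsgLib.PushPair39
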