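import Cfsg.Agent.PushPair39.FixedTriv
import Cfsg.Agent.PushingUp44.Structure

/-!
There is no critical path of length one: the word subgroup would lie in the Frattini subgroup of the core.
-/

set_option autoImplicit false
set_option maxHeartbeats 400000
set_option linter.unusedSectionVars false

open scoped commutatorElement
open CfsgLib.PushingUp44 (cj exists_mul_of_mem_sup commute_of_le_centralizer comm_mul_left comm_mul_right
  commute_comm_one commute_of_comm_one pow_mul_central comm_symm_mem)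

namespace CfsgLib.PushPair39

namespace Conf

variable {Γ : Type*} [Group Γ] {ι : Type*} {c : Conf Γ ι} [Finite Γ]

namespace IsB

theorem false_of_one (hk : c.IsB 1) {P : ℕ → c.Vtx} {E : ℕ → Subgroup Γ} (hc : c.IsCrit 1 P E) : False := by
  have hs : c.Step (P 0) (P 1) (E 0) := hc.1 0 (by omega)
  have ha := hs.syl_left
  have hb := hs.syl_right
  set N := fr c.p (c.Qx (P 0)) with hN
  have hGN : c.Gx (P 0) ≤ Subgroup.normalizer (N : Set Γ) := normal_fr _ (c.Gx_le_normalizer_Qx _)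
  have hEN : E 0 ≤ Subgroup.normalizer (N : Set Γ) := (c.syl_le_Gx ha).trans hGN
  have hVbE := c.Vx_le_syl hb
  have hVaE := c.Vx_le_syl ha
  -- decomposition of the core and of the edge group
  have hdecA : ∀ a ∈ c.Qx (P 0), ∃ v ∈ c.Vx (P 0), ∃ t ∈ c.Qx (P 0), t ∈ c.Qx (P 1) ∧ v * t = a := by
    intro a haQ
    have haE := c.Qx_le_syl ha haQ
    rw [← hk.sup_eq' hc] at haE
    obtain ⟨v, hv, t, ht, rfl⟩ := exists_mul_of_mem_sup
      ((hVaE.trans (c.syl_le_Gx hb)).trans (c.Gx_le_normalizer_Qx _)) haE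
    refine ⟨v, hv, t, ?_, ht, rfl⟩
    simpa using (c.Qx (P 0)).mul_mem ((c.Qx (P 0)).inv_mem (c.Vx_le_Qx _ hv)) haQ
  have hdec : ∀ e ∈ E 0, ∃ w ∈ c.Vx (P 1), ∃ v ∈ c.Vx (P 0), ∃ t ∈ c.Qx (P 0), t ∈ c.Qx (P 1) ∧
      w * v * t = e := by
    intro e he
    rw [← hk.sup_eq hc] at he
    obtain ⟨w, hw, a, haQ, rfl⟩ := exists_mul_of_mem_sup
      ((hVbE.trans (c.syl_le_Gx ha)).trans (c.Gx_le_normalizer_Qx _)) he
    obtain ⟨v, hv, t, ht, ht', rfl⟩ := hdecA a haQ
    exact ⟨w, hw, v, hv, t, ht, ht', mul_assoc _ _ _⟩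
  -- the Frattini subgroup of the core centralises the second module
  have hNcen : N ≤ Subgroup.centralizer (c.Vx (P 1) : Set Γ) := by
    refine le_cen_fr _ (fun a haQ => ?_) (fun a haQ b hbQ => ?_)
    · obtain ⟨v, hv, t, ht, ht', rfl⟩ := hdecA a haQ
      rw [(c.commute_Vx hv ht).mul_pow, c.Vx_elem hv, one_mul]
      exact c.Qx_le_centralizer _ (pow_mem ht' _)
    · obtain ⟨v, hv, t, ht, ht', rfl⟩ := hdecA a haQ
      obtain ⟨v', hv', t', hu, hu', rfl⟩ := hdecA b hbQ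
      have h1 : ∀ {w : Γ}, w ∈ c.Vx (P 0) → ∀ {q : Γ}, q ∈ c.Qx (P 0) → Commute w q :=
        fun hw _ hq => c.commute_Vx hw hq
      have hcm : ⁅t, t'⁆ ∈ c.Qx (P 0) := by
        rw [commutatorElement_def]; exact mul_mem (mul_mem (mul_mem ht hu) (inv_mem ht)) (inv_mem hu)
      rw [comm_mul_left, commute_comm_one (h1 hv hbQ), mul_one, comm_mul_right,
        commute_comm_one (h1 hv' ht).symm, one_mul, (h1 hv' hcm).eq, mul_inv_cancel_right, (h1 hv hcm).eq,
        mul_inv_cancel_right]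
      refine c.Qx_le_centralizer _ ?_
      rw [commutatorElement_def]; exact mul_mem (mul_mem (mul_mem ht' hu') (inv_mem ht')) (inv_mem hu')
  have hVV : ∀ {v w : Γ}, v ∈ c.Vx (P 0) → w ∈ c.Vx (P 1) → ⁅v, w⁆ ∈ Zc (E 0) := fun hv hw =>
    hk.commutator_le_Zc hc (Subgroup.commutator_mem_commutator hv hw)
  have hzc : ∀ {z e : Γ}, z ∈ Zc (E 0) → e ∈ E 0 → Commute z e := fun hz he =>
    (Subgroup.mem_centralizer_iff.1 hz.2 _ he).symm
  have hzp : ∀ {z : Γ}, z ∈ Zc (E 0) → z ^ c.p = 1 := fun hz => c.Vx_elem (c.Zc_le_Vx ha hz)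
  -- powers
  have hpow : ∀ {w v t : Γ}, w ∈ c.Vx (P 1) → v ∈ c.Vx (P 0) → t ∈ c.Qx (P 0) → t ∈ c.Qx (P 1) →
      (w * v * t) ^ c.p = ⁅v, w⁆ ^ c.p.choose 2 * t ^ c.p := by
    intro w v t hw hv ht ht'
    have hct : Commute (w * v) t := (c.commute_Vx hw ht').mul_left (c.commute_Vx hv ht)
    have hz := hVV hv hw
    rw [hct.mul_pow, pow_mul_central rfl (hzc hz (hVbE hw)) (hzc hz (hVaE hv)), c.Vx_elem hw, c.Vx_elem hv,
      one_mul, one_mul]
  -- the Frattini subgroup of the edge group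
  have hJ : fr c.p (E 0) ≤ N ⊔ Zc (E 0) := by
    refine le_cen_fr _ (fun e he => ?_) (fun e he e' he' => ?_)
    · obtain ⟨w, hw, v, hv, t, ht, ht', rfl⟩ := hdec e he
      rw [hpow hw hv ht ht']
      exact mul_mem (Subgroup.mem_sup_right (pow_mem (hVV hv hw) _)) (Subgroup.mem_sup_left (pow_mem_fr _ ht))
    · obtain ⟨w, hw, v, hv, t, ht, ht', rfl⟩ := hdec e he
      obtain ⟨w', hw', v', hv', t', hu, hu', rfl⟩ := hdec e' he'
      have c1 : ∀ {q : Γ}, q ∈ c.Qx (P 0) → q ∈ c.Qx (P 1) → Commute (w' * v') q := fun h h' =>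
        (c.commute_Vx hw' h').mul_left (c.commute_Vx hv' h)
      have c2 : ∀ {q : Γ}, q ∈ c.Qx (P 0) → q ∈ c.Qx (P 1) → Commute (w * v) q := fun h h' =>
        (c.commute_Vx hw h').mul_left (c.commute_Vx hv h)
      have m1 : ⁅t, t'⁆ ∈ c.Qx (P 0) := by
        rw [commutatorElement_def]; exact mul_mem (mul_mem (mul_mem ht hu) (inv_mem ht)) (inv_mem hu)
      have m2 : ⁅t, t'⁆ ∈ c.Qx (P 1) := by
        rw [commutatorElement_def]; exact mul_mem (mul_mem (mul_mem ht' hu') (inv_mem ht')) (inv_mem hu')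
      have e1 : ⁅t, w' * v' * t'⁆ = ⁅t, t'⁆ := by
        rw [comm_mul_right, commute_comm_one (c1 ht ht').symm, one_mul, (c1 m1 m2).eq, mul_inv_cancel_right]
      have e2 : ⁅w * v, w' * v' * t'⁆ = ⁅w * v, w' * v'⁆ := by
        rw [comm_mul_right, commute_comm_one (c2 hu hu'), mul_one, mul_inv_cancel, mul_one]
      rw [comm_mul_left, e1, e2, (c2 m1 m2).eq, mul_inv_cancel_right]
      refine mul_mem (Subgroup.mem_sup_left (comm_mem_fr _ ht hu)) (Subgroup.mem_sup_right ?_)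
      have z1 : ⁅w * v, w'⁆ ∈ Zc (E 0) := by
        rw [comm_mul_left, commute_comm_one (commute_of_le_centralizer (c.Vx_comm _) hw hw'), mul_one,
          (hzc (hVV hv hw') (hVbE hw)).symm.eq, mul_inv_cancel_right]
        exact hVV hv hw'
      have z2 : ⁅w * v, v'⁆ ∈ Zc (E 0) := by
        rw [comm_mul_left, commute_comm_one (commute_of_le_centralizer (c.Vx_comm _) hv hv'), mul_one,
          mul_inv_cancel, one_mul]
        exact comm_symm_mem (hVV hv' hw)
      rw [comm_mul_right, (hzc z2 (hVbE hw')).symm.eq, mul_inv_cancel_right]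
      exact mul_mem z1 z2
  -- commutators with and powers in the Frattini subgroup
  have hdecJ : ∀ x ∈ fr c.p (E 0), ∃ n ∈ N, ∃ z ∈ Zc (E 0), n * z = x := fun x hx => by
    have hx' := hJ hx
    rw [sup_comm] at hx'
    obtain ⟨z, hz, n, hn, rfl⟩ := exists_mul_of_mem_sup ((fun z hz => hEN hz.1 : Zc (E 0) ≤ _)) hx'
    exact ⟨n, hn, z, hz, (hzc hz ((le_cen_fr _ (fun a h => pow_mem h _) (fun a h b h' => by
      rw [commutatorElement_def]; exact mul_mem (mul_mem (mul_mem h h') (inv_mem h)) (inv_mem h'))).trans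
        (c.Qx_le_syl ha) hn)).eq.symm⟩
  have hNE : N ≤ E 0 := (le_cen_fr _ (fun a h => pow_mem h _) (fun a h b h' => by
      rw [commutatorElement_def]; exact mul_mem (mul_mem (mul_mem h h') (inv_mem h)) (inv_mem h'))).trans
        (c.Qx_le_syl ha)
  have hcN : ∀ {n e : Γ}, n ∈ N → e ∈ E 0 → ⁅n, e⁆ ∈ N := fun hn he => by
    refine comm_symm_mem ?_
    rw [commutatorElement_def]
    exact mul_mem ((Subgroup.mem_normalizer_iff.1 (hEN he) _).1 hn) (inv_mem hn)
  have h1 : ⁅fr c.p (E 0), E 0⁆ ≤ N := Subgroup.commutator_le.2 fun x hx e he => by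
    obtain ⟨n, hn, z, hz, rfl⟩ := hdecJ x hx
    rw [comm_mul_left, commute_comm_one (hzc hz he), mul_one, mul_inv_cancel, one_mul]
    exact hcN hn he
  have h2 : fr c.p (fr c.p (E 0)) ≤ N := by
    refine le_cen_fr _ (fun x hx => ?_) (fun x hx y hy => ?_)
    · obtain ⟨n, hn, z, hz, rfl⟩ := hdecJ x hx
      rw [(hzc hz (hNE hn)).symm.mul_pow, hzp hz, mul_one]
      exact pow_mem hn _
    · obtain ⟨n, hn, z, hz, rfl⟩ := hdecJ x hx
      obtain ⟨n', hn', z', hz', rfl⟩ := hdecJ y hy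
      rw [comm_mul_left, commute_comm_one (hzc hz (mul_mem (hNE hn') hz'.1)), mul_one, mul_inv_cancel, one_mul]
      exact hcN hn (mul_mem (hNE hn') hz'.1)
  have hwd : wd c.p (E 0) ≤ N := by
    rw [wd]
    split_ifs with h2p h3p
    · exact sup_le h1 h2
    · refine sup_le ((Subgroup.commutator_mono h1 le_rfl).trans ?_) h2
      exact Subgroup.commutator_le.2 fun n hn e he => hcN hn he
    · refine sup_le h1 ((Subgroup.closure_le _).2 ?_)
      rintro _ ⟨e, he, rfl⟩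
      obtain ⟨w, hw, v, hv, t, ht, ht', rfl⟩ := hdec e he
      rw [pow_one, hpow hw hv ht ht']
      obtain ⟨j, hj⟩ : c.p ∣ c.p.choose 2 :=
        c.prime.dvd_choose_self two_ne_zero (lt_of_le_of_ne c.prime.two_le (Ne.symm h2p))
      rw [hj, pow_mul, hzp (hVV hv hw), one_pow, one_mul]
      exact pow_mem_fr _ ht
  obtain ⟨X, hX, -, hkill⟩ := Syl.killer ha
  exact hc.2 ((le_inf hVbE (Subgroup.le_centralizer_iff.1 hNcen)).trans (hkill N hGN (hX.trans hwd)))

end IsB

end Conf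

end CfsgLib.PushPair39
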