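import Cfsg.Agent.PushPair39.Moved
import Cfsg.Agent.PushingUp44.Structure

/-!
Critical paths of length two: both middle vertices move to critical paths in every opposite direction.
-/

set_option autoImplicit false
set_option maxHeartbeats 400000
set_option linter.unusedSectionVars false

open scoped commutatorElement
open CfsgLib.PushingUp44 (cj mem_cj conj_mem_cj cj_cj cj_sup cj_inf cj_eq_of_le_normalizer le_normalizer_of_conj_le
  commute_of_le_centralizer comm_mul_left comm_mul_right commute_comm_one commute_of_comm_one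
  exists_mul_of_mem_sup comm_symm_mem pow_mul_central relIndex_mono_right)
open CfsgLib.CentrallyLarge (cen)

namespace CfsgLib.PushPair39

variable {Γ : Type*} [Group Γ]

theorem comm_mul_mul {u t u' t' : Γ} (h1 : Commute u t') (h2 : Commute u' t) (h3 : Commute u ⁅t, t'⁆)
    (h4 : Commute u' ⁅t, t'⁆) : ⁅u * t, u' * t'⁆ = ⁅t, t'⁆ * ⁅u, u'⁆ := by
  have e1 : ⁅t, u' * t'⁆ = ⁅t, t'⁆ := by
    rw [comm_mul_right, commute_comm_one h2.symm, one_mul, h4.eq, mul_inv_cancel_right]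
  have e2 : ⁅u, u' * t'⁆ = ⁅u, u'⁆ := by
    rw [comm_mul_right, commute_comm_one h1, mul_one, mul_inv_cancel, mul_one]
  rw [comm_mul_left, e1, e2, h3.eq, mul_inv_cancel_right]

/-- The Frattini subgroup lies in a normal subgroup with elementary abelian complement. -/
theorem fr_le_of_dec {p : ℕ} {E Y Q : Subgroup Γ} (hdec : ∀ e ∈ E, ∃ y ∈ Y, ∃ q ∈ Q, y * q = e)
    (hn : E ≤ Subgroup.normalizer (Q : Set Γ)) (hY : Y ≤ E) (hab : ∀ y ∈ Y, ∀ y' ∈ Y, Commute y y')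
    (hpow : ∀ y ∈ Y, y ^ p = 1) : fr p E ≤ Q := by
  have hcj : ∀ {e q : Γ}, e ∈ E → q ∈ Q → e * q * e⁻¹ ∈ Q := fun he hq =>
    (Subgroup.mem_normalizer_iff.1 (hn he) _).1 hq
  refine le_cen_fr _ (fun e he => ?_) (fun e he e' he' => ?_)
  · obtain ⟨y, hy, q, hq, rfl⟩ := hdec e he
    have key : ∀ n : ℕ, (y * q) ^ n * (y ^ n)⁻¹ ∈ Q := by
      intro n
      induction n with
      | zero => simp
      | succ n ih =>
        rw [pow_succ' (y * q), pow_succ' y,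
          show y * q * (y * q) ^ n * (y * y ^ n)⁻¹ = y * (q * ((y * q) ^ n * (y ^ n)⁻¹)) * y⁻¹ by group]
        exact hcj (hY hy) (mul_mem hq ih)
    simpa [hpow y hy] using key p
  · obtain ⟨y, hy, q, hq, rfl⟩ := hdec e he
    obtain ⟨y', hy', q', hq', rfl⟩ := hdec e' he'
    have h1 : ⁅q, y' * q'⁆ ∈ Q := by
      refine comm_symm_mem ?_
      rw [commutatorElement_def]
      exact mul_mem (hcj he' hq) (inv_mem hq)
    have h2 : ⁅y, q'⁆ ∈ Q := by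
      rw [commutatorElement_def]
      exact mul_mem (hcj (hY hy) hq') (inv_mem hq')
    rw [comm_mul_left]
    refine mul_mem (hcj (hY hy) h1) ?_
    rw [comm_mul_right, commute_comm_one (hab y hy y' hy'), one_mul]
    exact hcj (hY hy') h2

theorem fr_mono (p : ℕ) {H K : Subgroup Γ} (h : H ≤ K) : fr p H ≤ fr p K :=
  le_cen_fr _ (fun _ ha => pow_mem_fr _ (h ha)) (fun _ ha _ hb => comm_mem_fr _ (h ha) (h hb))

namespace Conf

variable {ι : Type*} (c : Conf Γ ι)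

/-- The standing data of a critical path of length two. -/
structure Pair (a b : c.Vtx) (E0 : Subgroup Γ) (h g : Γ) : Prop where
  isB : c.IsB 2
  step : c.Step a b E0
  hmem : h ∈ c.Gx a
  hopp : cj h E0 ⊔ E0 = c.Gx a
  gmem : g ∈ c.Gx b
  gopp : cj g E0 ⊔ E0 = c.Gx b
  critA : ∀ h' ∈ c.Gx a, cj h' E0 ⊔ E0 = c.Gx a → ¬ c.Vx b ≤ c.Qx (c.act h' b)
  critB : ∀ g' ∈ c.Gx b, cj g' E0 ⊔ E0 = c.Gx b → ¬ c.Vx a ≤ c.Qx (c.act g' a)

variable {c} [Finite Γ] {a b : c.Vtx} {E0 : Subgroup Γ} {h g : Γ}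

theorem IsB.exists_pair (hk : c.IsB 2) {P : ℕ → c.Vtx} {E : ℕ → Subgroup Γ} (hc : c.IsCrit 2 P E) :
    ∃ h g, c.Pair (P 0) (P 1) (E 0) h g := by
  have hs : c.Step (P 0) (P 1) (E 0) := hc.1 0 (by omega)
  obtain ⟨h, hh, hopp⟩ := exists_opp_elem hs.syl_left
  obtain ⟨g, hg, gopp⟩ := exists_opp_elem hs.syl_right
  refine ⟨h, g, hk, hs, hh, hopp, hg, gopp, fun h' hh' hopp' => ?_, fun g' hg' gopp' => ?_⟩
  · simpa only [pre_zero, pre_one, pre_two] using (hk.moved le_rfl hc hh' hopp').2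
  · have hr := hk.reverse (hk.moved le_rfl hc hh hopp)
    have := (hk.moved le_rfl hr (h := g')
      (by simpa only [Nat.sub_self, Nat.sub_zero, pre_zero, pre_one, pre_two] using hg')
      (by simpa only [Nat.sub_self, Nat.sub_zero, pre_zero, pre_one, pre_two, show (2 : ℕ) - 1 = 1 from rfl]
        using gopp')).2
    simpa only [Nat.sub_self, Nat.sub_zero, pre_zero, pre_one, pre_two, show (2 : ℕ) - 1 = 1 from rfl] using this

namespace Pair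

variable (o : c.Pair a b E0 h g)
include o

local notation "X" => Conf.Vx c (Conf.act c h b)
local notation "Y" => Conf.Vx c (Conf.act c g a)
local notation "D" => Conf.Qx c a ⊓ Conf.Qx c b
local notation "R" => (Conf.Qx c a ⊓ Conf.Qx c b) ⊓ (Conf.Qx c (Conf.act c h b) ⊓ Conf.Qx c (Conf.act c g a))
local notation "N" => fr (Conf.p c) (Conf.Qx c a)

theorem symm : c.Pair b a E0 g h :=
  ⟨o.isB, o.step.symm, o.gmem, o.gopp, o.hmem, o.hopp, o.critB, o.critA⟩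

theorem changeA {h' : Γ} (hh : h' ∈ c.Gx a) (hopp : cj h' E0 ⊔ E0 = c.Gx a) : c.Pair a b E0 h' g :=
  ⟨o.isB, o.step, hh, hopp, o.gmem, o.gopp, o.critA, o.critB⟩

theorem changeB {g' : Γ} (hg : g' ∈ c.Gx b) (hopp : cj g' E0 ⊔ E0 = c.Gx b) : c.Pair a b E0 h g' :=
  ⟨o.isB, o.step, o.hmem, o.hopp, hg, hopp, o.critA, o.critB⟩

theorem sylA : c.Syl a E0 := o.step.syl_left
theorem sylB : c.Syl b E0 := o.step.syl_right
theorem stepF : c.Step b (c.act g a) (cj g E0) := o.step.symm.act_right o.gmem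

theorem crit : c.IsCrit 2 (pre (c.act g a) (pre b fun _ => a)) (pre (cj g E0) fun _ => E0) := by
  refine ⟨fun i hi => ?_, by simpa only [pre_zero, pre_one, pre_two] using o.critB g o.gmem o.gopp⟩
  rcases i with _ | _ | i
  · exact o.stepF.symm
  · exact o.step.symm
  · omega

theorem sup_eq : Y ⊔ c.Qx a = E0 := by
  simpa only [pre_zero, pre_one, pre_two, show (2 : ℕ) - 1 = 1 from rfl] using o.isB.sup_eq' o.crit

theorem sup_F : c.Vx a ⊔ c.Qx (c.act g a) = cj g E0 := by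
  simpa only [pre_zero, pre_one, pre_two] using o.isB.sup_eq o.crit

theorem Y_cen : Y ⊓ cen (c.Vx a) = Zc (cj g E0) := by
  simpa only [pre_zero, pre_one, pre_two] using o.isB.centralizer_eq o.crit

theorem q_eq : (c.Qx a).relIndex Y = c.q a.1 := by

  have h1 := (o.isB.relIndex_ends o.crit).2
  simp only [pre_zero, pre_one, pre_two] at h1
  exact h1

theorem Y_le_Qb : Y ≤ c.Qx b := o.isB.small (j := 1) (by omega) (Near.cons o.stepF (near_self _))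
theorem X_le_Qa : X ≤ c.Qx a := o.symm.Y_le_Qb
theorem Va_le_Qb : c.Vx a ≤ c.Qx b := o.isB.small (j := 1) (by omega) (Near.cons o.step.symm (near_self _))
theorem Va_le_D : c.Vx a ≤ D := le_inf (c.Vx_le_Qx _) o.Va_le_Qb
theorem Vb_le_D : c.Vx b ≤ D := le_inf o.symm.Va_le_Qb (c.Vx_le_Qx _)
theorem Y_le : Y ≤ E0 := le_sup_left.trans_eq o.sup_eq
theorem X_le : X ≤ E0 := o.X_le_Qa.trans (c.Qx_le_syl o.sylA)
theorem D_le : D ≤ E0 := inf_le_left.trans (c.Qx_le_syl o.sylA)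

theorem E_norm_D : E0 ≤ Subgroup.normalizer ((D : Subgroup Γ) : Set Γ) := by
  refine le_normalizer_of_conj_le fun e he => ?_
  rw [cj_inf, cj_Qx_eq (c.syl_le_Gx o.sylA he), cj_Qx_eq (c.syl_le_Gx o.sylB he)]

theorem decE {e : Γ} (he : e ∈ E0) : ∃ y ∈ Y, ∃ q ∈ c.Qx a, y * q = e := by
  refine exists_mul_of_mem_sup ((o.Y_le.trans (c.syl_le_Gx o.sylA)).trans (c.Gx_le_normalizer_Qx _)) ?_
  rw [o.sup_eq]; exact he

theorem decQ {q : Γ} (hq : q ∈ c.Qx a) : ∃ x ∈ X, ∃ d ∈ D, x * d = q := by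
  obtain ⟨x, hx, d, hd, rfl⟩ := o.symm.decE (c.Qx_le_syl o.sylA hq)
  refine ⟨x, hx, d, ⟨?_, hd⟩, rfl⟩
  simpa using (c.Qx a).mul_mem ((c.Qx a).inv_mem (o.X_le_Qa hx)) hq

theorem decF {d : Γ} (hd : d ∈ D) : ∃ v ∈ c.Vx a, ∃ t ∈ c.Qx (c.act g a), t ∈ D ∧ v * t = d := by
  have hdF : d ∈ c.Vx a ⊔ c.Qx (c.act g a) := o.sup_F.ge (c.Qx_le_syl o.stepF.syl_left hd.2)
  obtain ⟨v, hv, t, ht, e⟩ := exists_mul_of_mem_sup
    ((le_sup_left.trans_eq o.sup_F).trans ((c.syl_le_Gx o.stepF.syl_right).trans (c.Gx_le_normalizer_Qx _))) hdF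
  refine ⟨v, hv, t, ht, ?_, e⟩
  rw [show t = v⁻¹ * d by rw [← e]; group]
  exact Subgroup.mul_mem _ (Subgroup.inv_mem _ (o.Va_le_D hv)) hd

theorem dec {d : Γ} (hd : d ∈ D) : ∃ v ∈ c.Vx a, ∃ w ∈ c.Vx b, ∃ t ∈ R, v * w * t = d := by
  obtain ⟨v, hv, t₁, ht₁g, ht₁, rfl⟩ := o.decF hd
  obtain ⟨w, hw, t, htf, htD, rfl⟩ := o.symm.decF (d := t₁) ⟨ht₁.2, ht₁.1⟩
  have hwg : w ∈ c.Qx (c.act g a) := o.isB.small (j := 1) (by omega) (Near.cons o.stepF.symm (near_self _)) hw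
  refine ⟨v, hv, w, hw, t, ⟨⟨htD.2, htD.1⟩, htf, ?_⟩, mul_assoc _ _ _⟩
  simpa using (c.Qx (c.act g a)).mul_mem ((c.Qx (c.act g a)).inv_mem hwg) ht₁g

theorem R_commX {t x : Γ} (ht : t ∈ R) (hx : x ∈ X) : Commute x t := c.commute_Vx hx ht.2.1
theorem R_commY {t y : Γ} (ht : t ∈ R) (hy : y ∈ Y) : Commute y t := c.commute_Vx hy ht.2.2

theorem zc_comm {z e : Γ} (hz : z ∈ Zc E0) (he : e ∈ E0) : Commute z e :=
  (Subgroup.mem_centralizer_iff.1 hz.2 _ he).symm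

theorem fr_le : N ≤ (E0 ⊓ cen X) ⊓ cen Y := by
  have hT : ∀ {t : Γ}, t ∈ R → t ∈ (E0 ⊓ cen X) ⊓ cen Y := fun ht =>
    ⟨⟨o.D_le ht.1, Subgroup.mem_centralizer_iff.2 fun x hx => (o.R_commX ht hx).eq⟩,
      Subgroup.mem_centralizer_iff.2 fun y hy => (o.R_commY ht hy).eq⟩
  have hZ : ∀ {z : Γ}, z ∈ Zc E0 → z ∈ (E0 ⊓ cen X) ⊓ cen Y := fun hz =>
    ⟨⟨hz.1, Subgroup.mem_centralizer_iff.2 fun x hx => (o.zc_comm hz (o.X_le hx)).eq.symm⟩,
      Subgroup.mem_centralizer_iff.2 fun y hy => (o.zc_comm hz (o.Y_le hy)).eq.symm⟩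
  have hgen : ∀ q ∈ c.Qx a, ∃ v ∈ c.Vx a, ∃ x ∈ X, ∃ w ∈ c.Vx b, ∃ t ∈ R,
      (x * w * t ∈ c.Qx a) ∧ v * (x * w * t) = q := by
    intro q hq
    obtain ⟨x, hx, d, hd, rfl⟩ := o.decQ hq
    obtain ⟨v, hv, w, hw, t, ht, rfl⟩ := o.dec hd
    refine ⟨v, hv, x, hx, w, hw, t, ht,
      mul_mem (mul_mem (o.X_le_Qa hx) (o.Vb_le_D hw).1) ht.1.1, ?_⟩
    rw [show x * (v * w * t) = x * v * (w * t) by group, ← (c.commute_Vx hv (o.X_le_Qa hx)).eq]
    group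
  have hxw : ∀ {x w : Γ}, x ∈ X → w ∈ c.Vx b → ⁅w, x⁆ ∈ Zc E0 := fun hx hw => comm_mem_Zc o.sylB hw (o.X_le hx)
  have hwE : ∀ {w : Γ}, w ∈ c.Vx b → w ∈ E0 := fun hw => c.Vx_le_syl o.sylB hw
  refine le_cen_fr _ (fun q hq => ?_) (fun q hq q' hq' => ?_)
  · obtain ⟨v, hv, x, hx, w, hw, t, ht, hr, rfl⟩ := hgen q hq
    have hct : Commute (x * w) t := (o.R_commX ht hx).mul_left (c.commute_Vx hw ht.1.2)
    rw [(c.commute_Vx hv hr).mul_pow, c.Vx_elem hv, one_mul, hct.mul_pow,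
      pow_mul_central rfl (o.zc_comm (hxw hx hw) (o.X_le hx)) (o.zc_comm (hxw hx hw) (hwE hw)),
      c.Vx_elem hx, c.Vx_elem hw, one_mul, one_mul]
    exact mul_mem (hZ (pow_mem (hxw hx hw) _)) (hT (pow_mem ht _))
  · obtain ⟨v, hv, x, hx, w, hw, t, ht, hr, rfl⟩ := hgen q hq
    obtain ⟨v', hv', x', hx', w', hw', t', ht', hr', rfl⟩ := hgen q' hq'
    have hrr : ⁅x * w * t, x' * w' * t'⁆ ∈ c.Qx a := by
      rw [commutatorElement_def]; exact mul_mem (mul_mem (mul_mem hr hr') (inv_mem hr)) (inv_mem hr')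
    have hrv : ∀ {v r : Γ}, v ∈ c.Vx a → r ∈ c.Qx a → Commute v r := fun hv hr => c.commute_Vx hv hr
    have htt : ⁅t, t'⁆ ∈ R := by
      rw [commutatorElement_def]; exact mul_mem (mul_mem (mul_mem ht ht') (inv_mem ht)) (inv_mem ht')
    have hc : ∀ {x w r : Γ}, x ∈ X → w ∈ c.Vx b → r ∈ R → Commute (x * w) r := fun hx hw hr =>
      (o.R_commX hr hx).mul_left (c.commute_Vx hw hr.1.2)
    rw [comm_mul_left, commute_comm_one (hrv hv hq'), mul_one, comm_mul_right,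
      commute_comm_one (hrv hv' hr).symm, one_mul, (hrv hv' hrr).eq, mul_inv_cancel_right, (hrv hv hrr).eq,
      mul_inv_cancel_right, comm_mul_mul (hc hx hw ht') (hc hx' hw' ht) (hc hx hw htt) (hc hx' hw' htt)]
    refine mul_mem (hT htt) (hZ ?_)
    have z1 : ⁅x * w, x'⁆ ∈ Zc E0 := by
      rw [comm_mul_left, commute_comm_one (commute_of_le_centralizer (c.Vx_comm _) hx hx'), mul_one,
        (o.zc_comm (hxw hx' hw) (o.X_le hx)).symm.eq, mul_inv_cancel_right]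
      exact hxw hx' hw
    have z2 : ⁅x * w, w'⁆ ∈ Zc E0 := by
      rw [comm_mul_left, commute_comm_one (commute_of_le_centralizer (c.Vx_comm _) hw hw'), mul_one,
        mul_inv_cancel, one_mul]
      exact comm_symm_mem (hxw hx hw')
    rw [comm_mul_right, (o.zc_comm z2 (o.X_le hx')).symm.eq, mul_inv_cancel_right]
    exact mul_mem z1 z2

theorem fr_commY {n y : Γ} (hn : n ∈ N) (hy : y ∈ Y) : Commute y n :=
  Subgroup.mem_centralizer_iff.1 (o.fr_le hn).2 _ hy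

theorem fr_commX {n x : Γ} (hn : n ∈ N) (hx : x ∈ X) : Commute x n :=
  Subgroup.mem_centralizer_iff.1 (o.fr_le hn).1.2 _ hx

theorem fr_normal : c.Gx a ≤ Subgroup.normalizer ((N : Subgroup Γ) : Set Γ) :=
  normal_fr _ (c.Gx_le_normalizer_Qx _)

theorem cj_fr {e n : Γ} (he : e ∈ E0) (hn : n ∈ N) : e * n * e⁻¹ ∈ N :=
  (Subgroup.mem_normalizer_iff.1 (o.fr_normal (c.syl_le_Gx o.sylA he)) _).1 hn

theorem J_norm : E0 ≤ Subgroup.normalizer ((N ⊔ Zc E0 : Subgroup Γ) : Set Γ) := by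
  refine le_normalizer_of_conj_le fun e he => ?_
  rw [cj_sup, cj_eq_of_le_normalizer (o.fr_normal (c.syl_le_Gx o.sylA he)), ← Zc_cj,
    cj_eq_of_le_normalizer (Subgroup.le_normalizer he)]

theorem frE_le : fr c.p E0 ≤ D :=
  le_inf
    (fr_le_of_dec (fun _ he => o.decE he) ((c.syl_le_Gx o.sylA).trans (c.Gx_le_normalizer_Qx _)) o.Y_le
      (fun _ hy _ hy' => commute_of_le_centralizer (c.Vx_comm _) hy hy') (fun _ hy => c.Vx_elem hy))
    (fr_le_of_dec (fun _ he => o.symm.decE he) ((c.syl_le_Gx o.sylB).trans (c.Gx_le_normalizer_Qx _)) o.X_le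
      (fun _ hx _ hx' => commute_of_le_centralizer (c.Vx_comm _) hx hx') (fun _ hx => c.Vx_elem hx))

theorem comm_D {d e : Γ} (hd : d ∈ D) (he : e ∈ E0) : ⁅d, e⁆ ∈ N ⊔ Zc E0 := by
  obtain ⟨v, hv, w, hw, t, ht, rfl⟩ := o.dec hd
  have hcj : ∀ {e j : Γ}, e ∈ E0 → j ∈ N ⊔ Zc E0 → e * j * e⁻¹ ∈ N ⊔ Zc E0 := fun he hj =>
    (Subgroup.mem_normalizer_iff.1 (o.J_norm he) _).1 hj
  have h1 : ⁅t, e⁆ ∈ N ⊔ Zc E0 := by
    obtain ⟨y, hy, q, hq, rfl⟩ := o.decE he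
    rw [comm_mul_right, commute_comm_one (o.R_commY ht hy).symm, one_mul]
    exact Subgroup.mem_sup_left (o.cj_fr (o.Y_le hy) (comm_mem_fr _ ht.1.1 hq))
  have hwE : w ∈ E0 := c.Vx_le_syl o.sylB hw
  rw [mul_assoc, comm_mul_left, comm_mul_left]
  exact mul_mem (hcj (c.Vx_le_syl o.sylA hv)
    (mul_mem (hcj hwE h1) (Subgroup.mem_sup_right (comm_mem_Zc o.sylB hw he))))
    (Subgroup.mem_sup_right (comm_mem_Zc o.sylA hv he))

theorem comm_J {j e : Γ} (hj : j ∈ N ⊔ Zc E0) (he : e ∈ E0) : ⁅j, e⁆ ∈ N := by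
  rw [sup_comm] at hj
  obtain ⟨z, hz, n, hn, rfl⟩ := exists_mul_of_mem_sup
    ((inf_le_left.trans (c.syl_le_Gx o.sylA)).trans o.fr_normal : Zc E0 ≤ _) hj
  rw [comm_mul_left, commute_comm_one (o.zc_comm hz he), mul_one]
  refine o.cj_fr hz.1 (comm_symm_mem ?_)
  rw [commutatorElement_def]
  exact mul_mem (o.cj_fr he hn) (inv_mem hn)

theorem mem_Qa_of_commute {y : Γ} (hy : y ∈ E0) (hc : ∀ v ∈ c.Vx a, Commute v y) : y ∈ c.Qx a := by
  by_contra hn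
  have hle : c.Vx a ≤ Zc E0 := fun v hv => mem_Zc_of_commute o.sylA hy hn hv (hc v hv)
  have h1 := relIndex_Zc o.sylA
  rw [Subgroup.relIndex_eq_one.2 hle] at h1
  exact (c.one_lt _).ne h1

theorem not_mem_ZcF {y : Γ} (hy : y ∈ Y) (hyQ : y ∉ c.Qx a) : y ∉ Zc (cj g E0) := fun hz =>
  hyQ (o.mem_Qa_of_commute (o.Y_le hy) fun v hv => Subgroup.mem_centralizer_iff.1 (o.Y_cen.ge hz).2 v hv)

theorem exists_y : ∃ y ∈ Y, y ∉ c.Qx a := SetLike.not_le_iff_exists.1 fun hle => by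
  have h1 := relIndex_core o.sylA
  rw [Subgroup.relIndex_eq_one.2 (o.sup_eq.ge.trans (sup_le hle le_rfl))] at h1
  exact (c.one_lt _).ne h1

theorem nondeg {q w : Γ} (hq : q ∈ c.Qx a) (hqb : q ∉ c.Qx b) (hwY : w ∈ Y) (hwQ : w ∉ c.Qx a) :
    ¬ ∀ y ∈ Y, Commute ⁅q, w⁆ y := by
  intro hall
  have hwF := o.not_mem_ZcF hwY hwQ
  set g' := g⁻¹ * q * g with hg'
  have hqE := c.Qx_le_syl o.sylA hq
  have hg'G : g' ∈ c.Gx b := mul_mem (mul_mem (inv_mem o.gmem) (c.syl_le_Gx o.sylB hqE)) o.gmem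
  have hopp' : cj g' E0 ⊔ E0 = c.Gx b := by
    refine CfsgLib.PushingUp44.cj_injective g ?_
    rw [cj_sup, cj_cj, cj_Gx_eq o.gmem, show g * g' = q * g by rw [hg']; group, ← cj_cj, sup_comm]
    exact c.opp_cj o.stepF.syl_left o.sylB o.gopp hqE hqb
  have hv : g⁻¹ * w * g ∈ c.Vx a := mem_cj.1 ((Vx_act c g a).le hwY)
  set u := g' * (g⁻¹ * w * g) * g'⁻¹ with hu
  have eu : g * u * g⁻¹ = ⁅q, w⁆ * w := by rw [hu, hg', commutatorElement_def]; group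
  have hu' : u ∈ Zc (cj g' E0) := by
    rw [← (o.changeB hg'G hopp').Y_cen]
    refine ⟨by rw [Vx_act]; exact conj_mem_cj hv, Subgroup.mem_centralizer_iff.2 fun m hm => ?_⟩
    have hm' : g * m * g⁻¹ ∈ Y := (Vx_act c g a).ge (conj_mem_cj hm)
    have h1 : Commute (g * m * g⁻¹) (⁅q, w⁆ * w) :=
      (hall _ hm').symm.mul_right (commute_of_le_centralizer (c.Vx_comm _) hm' hwY)
    rw [← eu] at h1
    calc m * u = g⁻¹ * (g * m * g⁻¹ * (g * u * g⁻¹)) * g := by group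
      _ = g⁻¹ * (g * u * g⁻¹ * (g * m * g⁻¹)) * g := by rw [h1.eq]
      _ = _ := by group
  rw [Zc_cj, mem_cj, show g'⁻¹ * u * g' = g⁻¹ * w * g by rw [hu]; group] at hu'
  exact hwF (by rw [Zc_cj, mem_cj]; exact hu')

/-- The first factor of a nondegenerate commutator is not central. -/
theorem comm_dec {x y : Γ} (hx : x ∈ X) (hxb : x ∉ c.Qx b) (hy : y ∈ Y) (hyQ : y ∉ c.Qx a) :
    ∃ v ∈ c.Vx a, ∃ w ∈ c.Vx b, ∃ t ∈ R, v * w * t = ⁅x, y⁆ ∧ v ∉ Zc E0 ∧ ⁅v, y⁆ ≠ 1 ∧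
      ⁅⁅x, y⁆, y⁆ = ⁅v, y⁆ := by
  have hxy : ⁅x, y⁆ ∈ D := o.frE_le (comm_mem_fr _ (o.X_le hx) (o.Y_le hy))
  obtain ⟨v, hv, w, hw, t, ht, e⟩ := o.dec hxy
  have hvZ : v ∉ Zc E0 := fun hz => o.nondeg (o.X_le_Qa hx) hxb hy hyQ fun y' hy' => by
    rw [← e]
    exact ((o.zc_comm hz (o.Y_le hy')).mul_left (c.commute_Vx hw (o.Y_le_Qb hy'))).mul_left (o.R_commY ht hy').symm
  refine ⟨v, hv, w, hw, t, ht, e, hvZ,
    fun h1 => hvZ (mem_Zc_of_commute o.sylA (o.Y_le hy) hyQ hv (commute_of_comm_one h1)), ?_⟩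
  rw [← e, mul_assoc, comm_mul_left,
    commute_comm_one ((c.commute_Vx hw (o.Y_le_Qb hy)).mul_left (o.R_commY ht hy).symm), mul_one, mul_inv_cancel,
    one_mul]

theorem p_ne_three : c.p ≠ 3 := by
  intro hp
  have h1 : ⁅fr c.p E0, E0⁆ ≤ N ⊔ Zc E0 := Subgroup.commutator_le.2 fun d hd e he => o.comm_D (o.frE_le hd) he
  have h2 : wd c.p E0 ≤ N := by
    rw [wd, if_neg (by omega), if_pos hp]
    refine sup_le ((Subgroup.commutator_mono h1 le_rfl).trans (Subgroup.commutator_le.2 fun j hj e he =>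
      o.comm_J hj he)) (fr_mono _ (o.frE_le.trans inf_le_left))
  obtain ⟨W, hW, -, hkill⟩ := Syl.killer o.sylA
  obtain ⟨y, hy, hyQ⟩ := o.exists_y
  exact hyQ (hkill N o.fr_normal (hW.trans h2) ⟨o.Y_le hy, Subgroup.mem_centralizer_iff.2 fun n hn =>
    (o.fr_commY hn hy).symm.eq⟩)

theorem p_ne_two : c.p ≠ 2 := by
  intro hp
  obtain ⟨x, hx, hxb⟩ := o.symm.exists_y
  obtain ⟨y, hy, hyQ⟩ := o.exists_y
  obtain ⟨v, hv, w, hw, t, ht, e, -, hne, -⟩ := o.comm_dec hx hxb hy hyQ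
  have hy2 : y ^ 2 = 1 := hp ▸ c.Vx_elem hy
  have hv2 : v ^ 2 = 1 := hp ▸ c.Vx_elem hv
  have hw2 : w ^ 2 = 1 := hp ▸ c.Vx_elem hw
  have h1 : (v * (w * t) * y) * (v * (w * t) * y) = 1 := by
    rw [← mul_assoc v w t, e, commutatorElement_def, inv_mul_cancel_right, ← sq, conj_pow, hy2, mul_one,
      mul_inv_cancel]
  set s := w * t with hs
  have hcy : Commute s y := (c.commute_Vx hw (o.Y_le_Qb hy)).mul_left (o.R_commY ht hy).symm
  have hcv : Commute s v := ((c.commute_Vx hv (o.Vb_le_D hw).1).symm).mul_left (c.commute_Vx hv ht.1.1).symm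
  have hvi : v⁻¹ = v := inv_eq_of_mul_eq_one_right (by rw [← sq]; exact hv2)
  have hyi : y⁻¹ = y := inv_eq_of_mul_eq_one_right (by rw [← sq]; exact hy2)
  have e2 : ⁅v, y⁆ * (s * s) = 1 := by
    rw [← h1, commutatorElement_def, hvi, hyi]
    calc v * y * v * y * (s * s) = v * y * v * (y * s) * s := by group
      _ = v * y * v * (s * y) * s := by rw [hcy.eq]
      _ = v * y * (v * s) * (y * s) := by group
      _ = v * y * (s * v) * (s * y) := by rw [← hcv.eq, ← hcy.eq]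
      _ = v * (y * s) * (v * (s * y)) := by group
      _ = _ := by rw [← hcy.eq]; group
  have hss : s * s = t ^ c.p := by
    rw [← sq, hs, (c.commute_Vx hw ht.1.2).mul_pow, hw2, one_mul, hp]
  have hmem : ⁅v, y⁆ ∈ N := by
    rw [eq_inv_of_mul_eq_one_left e2, hss]
    exact inv_mem (pow_mem_fr _ ht.1.1)
  exact hne (comm_eq_one_of_central o.sylA hv (o.Y_le hy)
    (central_of_centralized o.sylA o.fr_normal (o.Y_le hy) hyQ (fun n hn => o.fr_commY hn hy) hmem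
      (comm_mem_Zc o.sylA hv (o.Y_le hy))))

end Pair

end Conf

end CfsgLib.PushPair39
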