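import Cfsg.Agent.PushPair39.Family
import Cfsg.Agent.PushingUp44.MinimalCLNormal
import Cfsg.Agent.PGroup.Normal
import Cfsg.Agent.Eq.Def_BaumannBlocks
import Cfsg.Agent.Eq.Def_PLocal
import Cfsg.Agent.Eq.Def_Transfer

/-!
Reduction of the existence of a pushing up pair to the standing case, and the exceptional class.
-/

set_option autoImplicit false
set_option linter.unusedSectionVars false
set_option linter.style.haveILetI false

universe u

open Cfsg
open scoped commutatorElement Pointwise
open CfsgLib.CentrallyLarge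
open CfsgLib.PushingUp44

namespace CfsgLib.PushPair39

variable {p : ℕ} {S : Type u} [Group S]

/-- In every member one of the two subgroups is normal. -/
def Good (p : ℕ) (S₁ S₂ : Subgroup S) : Prop :=
  ∀ m : Member p S, (S₁.map m.τ).Normal ∨ (S₂.map m.τ).Normal

/-- A pushing up pair. -/
structure IsPair (p : ℕ) (S₁ S₂ : Subgroup S) : Prop where
  ne₁ : S₁ ≠ ⊥
  ne₂ : S₂ ≠ ⊥
  char₁ : S₁.Characteristic
  char₂ : S₂.Characteristic
  le₁ : S₁ ≤ Subgroup.center S
  le₂ : S₂ ≤ jTilde S
  charJ : (S₂.subgroupOf (jTilde S)).Characteristic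
  good : Good p S₁ S₂

/-- The second member contains a centrally large subgroup of `C_S(Z(J(S)))`. -/
def Big (S₂ : Subgroup S) : Prop := maxCentralProduct ↥S₂ = maxCentralProduct ↥(jTilde S)

/-- The assertion about the configurations. -/
def HasLarge (Γ ι : Type u) [Group Γ] (c : Conf Γ ι) : Prop :=
  ∃ X : Subgroup Γ, X ≤ c.S ∧ Zc c.S ≤ X ∧
    Subgroup.normalizer (c.S : Set Γ) ≤ Subgroup.normalizer (X : Set Γ) ∧
    (∀ i, c.G i ≤ Subgroup.normalizer (X : Set Γ)) ∧
    Nat.card X * Nat.card (X ⊓ Subgroup.centralizer (X : Set Γ) : Subgroup Γ) = c.f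

theorem characteristic_subgroupOf_self {H : Subgroup S} : (H.subgroupOf H).Characteristic := by
  rw [Subgroup.subgroupOf_self]; infer_instance

variable [Finite S] [hp : Fact p.Prime]

theorem maxCentralProduct_eq_of_large {R : Subgroup S} (hR : IsCentrallyLarge R) :
    maxCentralProduct ↥R = maxCentralProduct S := by
  refine le_antisymm (csSup_le ⟨_, ⊥, rfl⟩ ?_) ?_
  · rintro k ⟨T, rfl⟩
    have e := T.equivMapOfInjective R.subtype R.subtype_injective
    rw [Nat.card_congr e.toEquiv, Nat.card_congr (Subgroup.centerCongr e).toEquiv, card_center]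
    exact le_maxCentralProduct _
  · rw [← show _ = maxCentralProduct S from hR]
    have e : (⊤ : Subgroup R) ≃* R := Subgroup.topEquiv
    rw [← Nat.card_congr e.toEquiv, ← Nat.card_congr (Subgroup.centerCongr e).toEquiv, card_center]
    exact le_maxCentralProduct _

theorem big_of_large {R : Subgroup S} (hJ : jTilde S = ⊤) (hR : IsCentrallyLarge R) : Big R := by
  rw [Big, maxCentralProduct_eq_of_large hR, hJ]
  exact maxCentralProduct_congr Subgroup.topEquiv.symm

namespace Member

variable (m : Member p S)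

theorem centerThompson_eq :
    centerThompsonAOf (m.P : Subgroup m.G) =
      (thompsonSubgroupA S ⊓ Subgroup.centralizer (thompsonSubgroupA S : Set S)).map m.τ := by
  rw [m.map_τ, Subgroup.map_inf _ _ _ m.e.injective, map_cen, map_thompsonA, centerThompsonAOf,
    thompsonSubgroupAOf, Subgroup.map_inf _ _ _ (m.P : Subgroup m.G).subtype_injective, ← inf_centralizer_map]
  exact le_antisymm (le_inf inf_le_left (le_inf (inf_le_left.trans (Subgroup.map_subtype_le _))
      inf_le_right)) (inf_le_inf_left _ inf_le_right)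

theorem jTilde_eq :
    (m.P : Subgroup m.G) ⊓ Subgroup.centralizer (centerThompsonAOf (m.P : Subgroup m.G) : Set m.G) =
      (jTilde S).map m.τ := by
  rw [inf_centralizer_centerThompson, m.map_τ, map_jTilde]

theorem cen_eq :
    (m.P : Subgroup m.G) ⊓ Subgroup.centralizer ((m.P : Subgroup m.G) : Set m.G) =
      (Subgroup.center S).map m.τ := m.zSyl_eq

end Member

/-- No member exists when `S` is abelian. -/
theorem good_of_comm (hab : IsMulCommutative S) (S₁ S₂ : Subgroup S) : Good p S₁ S₂ := fun m => by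
  exfalso
  refine m.hyp.not_sylow_le_pCore fun x hx => m.hyp.cent ?_
  rw [Subgroup.mem_centralizer_iff]
  intro y hy
  obtain ⟨a, rfl⟩ : ∃ a, m.τ a = x := ⟨m.e.symm ⟨x, hx⟩, by
    show ((m.e (m.e.symm ⟨x, hx⟩) : (m.P : Subgroup m.G)) : m.G) = x
    rw [MulEquiv.apply_symm_apply]⟩
  obtain ⟨b, rfl⟩ : ∃ b, m.τ b = y := ⟨m.e.symm ⟨y, m.hyp.pCore_le_sylow hy⟩, by
    show ((m.e (m.e.symm ⟨y, _⟩) : (m.P : Subgroup m.G)) : m.G) = y
    rw [MulEquiv.apply_symm_apply]⟩
  rw [← map_mul, ← map_mul, hab.is_comm.comm b a]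

/-- The pair when `Z(J(S))` is not central. -/
theorem pair_commutator (hS : IsPGroup p S) (hJ : jTilde S ≠ ⊤) :
    ∃ S₁, IsPair p S₁ (jTilde S) := by
  set Z := thompsonSubgroupA S ⊓ Subgroup.centralizer (thompsonSubgroupA S : Set S)
  have hne : ⁅Z, (⊤ : Subgroup S)⁆ ≠ ⊥ := fun h => hJ <| by
    rw [Subgroup.commutator_eq_bot_iff_le_centralizer] at h
    exact top_le_iff.1 (Subgroup.le_centralizer_iff.1 h)
  haveI : Z.Normal := inferInstance
  refine ⟨⁅Z, (⊤ : Subgroup S)⁆ ⊓ Subgroup.center S, CfsgLib.PGroup.inf_center_ne_bot hS _ hne, ?_,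
    inferInstance, inferInstance, inf_le_right, le_rfl, characteristic_subgroupOf_self, fun m => ?_⟩
  · intro h
    exact CfsgLib.PGroup.inf_center_ne_bot hS _ hne (le_bot_iff.1 (inf_le_right.trans (center_le_jTilde.trans h.le)))
  · rcases CfsgLib.PushingUp.Hyp.commutator_case m.hyp with h | h
    · left
      rw [Subgroup.map_inf _ _ _ m.τ_injective, Subgroup.map_commutator, m.range_τ, ← m.centerThompson_eq,
        ← m.cen_eq]
      exact h
    · right
      rw [← m.jTilde_eq]
      exact h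

/-- The pair when the centre is not elementary. -/
theorem pair_power {z : S} (hz : z ∈ Subgroup.center S) (hzp : z ^ p ≠ 1) :
    ∃ S₁, IsPair p S₁ (jTilde S) := by
  refine ⟨powerClosure p 1 (Subgroup.center S), ?_, ?_, characteristic_powerClosure _ _ _, inferInstance, ?_, le_rfl,
    characteristic_subgroupOf_self, fun m => ?_⟩
  · intro h
    apply hzp
    rw [← Subgroup.mem_bot, ← h]
    exact Subgroup.subset_closure ⟨z, hz, by rw [pow_one]⟩
  · intro h
    have h1 := center_le_jTilde hz
    rw [h, Subgroup.mem_bot] at h1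
    exact hzp (by rw [h1, one_pow])
  · refine (Subgroup.closure_le _).2 ?_
    rintro _ ⟨x, hx, rfl⟩
    exact pow_mem hx _
  · rcases CfsgLib.PushingUp.Hyp.power_case m.hyp with h | h
    · left
      rw [← powerClosure_map, ← m.cen_eq]
      exact h
    · right
      rw [← m.jTilde_eq]
      exact h

/-- The pair when some minimal centrally large subgroup is not abelian. -/
theorem pair_derived (hS : IsPGroup p S) (hJ : jTilde S = ⊤) {Q : Subgroup S}
    (hQ : IsMinimalCentrallyLarge Q) (hQc : ¬ IsMulCommutative Q) :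
    ∃ S₁ S₂ : Subgroup S, IsPair p S₁ S₂ ∧ Big S₂ := by
  haveI := CfsgLib.PushingUp44.characteristic_commutator hS hQ
  haveI hc2 : (minimalCentrallyLargeJoin S).Characteristic := characteristic_minimalCLJoin
  have hne : ⁅Q, Q⁆ ≠ ⊥ := fun h => hQc <| by
    rw [Subgroup.commutator_eq_bot_iff_le_centralizer] at h
    exact comm_of_le_cen h
  refine ⟨⁅Q, Q⁆ ⊓ Subgroup.center S, minimalCentrallyLargeJoin S,
    ⟨CfsgLib.PGroup.inf_center_ne_bot hS _ hne, ?_, inferInstance, hc2, inf_le_right, hJ ▸ le_top,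
      subgroupOf_characteristic hJ, fun m => ?_⟩,
    big_of_large hJ isCentrallyLarge_minimalCentrallyLargeJoin⟩
  · intro h
    have hQJ : Q ≤ minimalCentrallyLargeJoin S :=
      le_sSup (show Q ∈ {R : Subgroup S | IsMinimalCentrallyLarge R} from hQ)
    have h1 : Q = ⊥ := le_bot_iff.1 (hQJ.trans h.le)
    exact hne (by rw [h1, Subgroup.commutator_bot_left])
  · rcases center_inf_commutator_or_join m.hyp (isMinimalCentrallyLarge_map m.e hQ) with h | h
    · left
      rw [inf_comm, Subgroup.map_inf _ _ _ m.τ_injective, ← m.zSyl_eq, m.map_τ ⁅Q, Q⁆,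
        Subgroup.map_commutator]
      exact h
    · right
      rw [m.map_τ, map_minimalCLJoin]
      exact h

theorem characteristic_word : (word p S).Characteristic := by
  haveI : ((frattini ↥(frattini S)).map (frattini S).subtype).Characteristic := characteristic_map_subtype _
  haveI := characteristic_powerClosure p 1 (⊤ : Subgroup S)
  unfold word
  split_ifs <;> infer_instance

/-- The standing case. -/
theorem pair_standing (hcore : ∀ (Γ ι : Type u) [Group Γ] [Finite Γ] [Finite ι] (c : Conf Γ ι), HasLarge Γ ι c)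
    (st : Standing p S) (hw : word p S ≠ ⊥) : ∃ S₁ S₂ : Subgroup S, IsPair p S₁ S₂ ∧ Big S₂ := by
  classical
  haveI := characteristic_word (p := p) (S := S)
  haveI hWc : (wordCenter p S).Characteristic := by unfold wordCenter; infer_instance
  have hW : wordCenter p S ≠ ⊥ := CfsgLib.PGroup.inf_center_ne_bot st.pgroup _ hw
  suffices h : ∃ X : Subgroup S, X.Characteristic ∧ IsCentrallyLarge X ∧ X ≠ ⊥ ∧
      Good p (wordCenter p S) X by
    obtain ⟨X, hX, hXl, hX1, hgood⟩ := h
    exact ⟨wordCenter p S, X, ⟨hW, hX1, hWc, hX, inf_le_right, st.jTilde_top ▸ le_top,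
      subgroupOf_characteristic st.jTilde_top, hgood⟩, big_of_large st.jTilde_top hXl⟩
  by_contra hcon
  push Not at hcon
  have hbad : ∀ i : {X : Subgroup S // X.Characteristic ∧ IsCentrallyLarge X ∧ X ≠ ⊥},
      ∃ m : Member p S, ¬ ((wordCenter p S).map m.τ).Normal ∧ ¬ (i.1.map m.τ).Normal := fun i => by
    have h := hcon i.1 i.2.1 i.2.2.1 i.2.2.2
    simp only [Good, not_forall, not_or] at h
    exact h
  choose mem hmem using hbad
  have htop : (⊤ : Subgroup S) ≠ ⊥ := fun h => hW (le_bot_iff.1 (le_top.trans h.le))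
  let base : {X : Subgroup S // X.Characteristic ∧ IsCentrallyLarge X ∧ X ≠ ⊥} :=
    ⟨⊤, inferInstance, st.top_large, htop⟩
  have bad : ∀ i, ¬ (wordCenter p S).map (mem i).τ ≤ Subgroup.center (mem i).G := fun i h =>
    (hmem i).1 (CfsgLib.PushingUp.normal_of_le_center h)
  obtain ⟨X, hXS, -, hXN, hXG, hXf⟩ := hcore _ _ (famConf mem base st bad)
  set X₀ := X.comap (baseHom mem) with hX₀
  have hmap : X₀.map (baseHom mem) = X :=
    Subgroup.map_comap_eq_self (hXS.trans (Subgroup.map_le_range _ _))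
  have hchar : X₀.Characteristic := characteristic_comap mem hXN
  have hXl : IsCentrallyLarge X₀ := by
    show _ = _
    rw [card_center, st.maxCentralProduct_eq']
    rw [← hmap, inf_centralizer_image (baseHom_injective mem),
      Subgroup.card_map_of_injective (baseHom_injective mem),
      Subgroup.card_map_of_injective (baseHom_injective mem)] at hXf
    exact hXf
  have hX1 : X₀ ≠ ⊥ := by
    intro h
    have h1 : Nat.card S * Nat.card ↥(Subgroup.center S) = 1 := by
      rw [← st.maxCentralProduct_eq', ← show _ = maxCentralProduct S from hXl, card_center, h]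
      simp
    exact hW ((Subgroup.eq_bot_iff_forall _).2 fun x _ =>
      (Nat.card_eq_one_iff_unique.1 (Nat.eq_one_of_mul_eq_one_right h1)).1.elim x 1)
  refine (hmem ⟨X₀, hchar, hXl, hX1⟩).2 (normal_of_le_normalizer mem _ ?_)
  rw [hmap]
  exact hXG _

/-- The general reduction. -/
theorem exists_pair (hcore : ∀ (Γ ι : Type u) [Group Γ] [Finite Γ] [Finite ι] (c : Conf Γ ι), HasLarge Γ ι c)
    [Nontrivial S] (hS : IsPGroup p S) (h : Standing p S → ¬ IsMulCommutative S → word p S ≠ ⊥) :
    ∃ S₁ S₂ : Subgroup S, IsPair p S₁ S₂ ∧ Big S₂ := by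
  by_cases hJ : jTilde S = ⊤
  swap
  · obtain ⟨S₁, h1⟩ := pair_commutator hS hJ
    exact ⟨S₁, _, h1, rfl⟩
  by_cases hz : ∀ z ∈ Subgroup.center S, z ^ p = 1
  swap
  · push Not at hz
    obtain ⟨z, hz, hzp⟩ := hz
    obtain ⟨S₁, h1⟩ := pair_power hz hzp
    exact ⟨S₁, _, h1, rfl⟩
  by_cases hq : ∀ Q : Subgroup S, IsMinimalCentrallyLarge Q → IsMulCommutative Q
  swap
  · push Not at hq
    obtain ⟨Q, hQ, hQc⟩ := hq
    exact pair_derived hS hJ hQ hQc
  by_cases hab : IsMulCommutative S
  · have hne : Subgroup.center S ≠ ⊥ := by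
      intro hbot
      have := hS.center_nontrivial
      exact (Subgroup.nontrivial_iff_ne_bot _).1 this hbot
    exact ⟨Subgroup.center S, jTilde S, ⟨hne, fun hb => hne (le_bot_iff.1 (center_le_jTilde.trans hb.le)),
      inferInstance, inferInstance, le_rfl, le_rfl, characteristic_subgroupOf_self, good_of_comm hab _ _⟩, rfl⟩
  have st : Standing p S := ⟨hS, hJ, hz, hq⟩
  exact pair_standing hcore st (h st hab)

/-- The pair when no abelian subgroup of largest order is elementary. -/
theorem pair_frattiniJoin [Nontrivial S] (st : Standing p S)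
    (hel : ¬ ∃ A ∈ maxAbelianSubgroups S, IsElementaryAbelian p A) :
    ∃ S₁ S₂ : Subgroup S, IsPair p S₁ S₂ := by
  haveI hc := characteristic_frattiniJoin (S := S) p
  refine ⟨Subgroup.center S, frattiniOfMinimalCLJoin p S, ?_, ?_, inferInstance, hc, le_rfl,
    st.jTilde_top ▸ le_top, subgroupOf_characteristic st.jTilde_top, fun m => ?_⟩
  · intro hbot
    have := st.pgroup.center_nontrivial
    exact (Subgroup.nontrivial_iff_ne_bot _).1 this hbot
  · intro hΦ
    apply hel
    obtain ⟨R, hR⟩ := exists_isCentrallyLarge (G := S)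
    obtain ⟨R₀, -, hR₀⟩ := exists_minimal_le hR
    obtain ⟨Q, hQ, hQsel⟩ : maxOmegaCenterOfMinimalCL p S ∈
        {k : ℕ | ∃ Q : Subgroup S, IsMinimalCentrallyLarge Q ∧ Nat.card ↥(omegaOneCenter p Q) = k} :=
      Nat.sSup_mem ⟨_, R₀, hR₀, rfl⟩ ⟨Nat.card S, by
        rintro k ⟨X, -, rfl⟩; exact Subgroup.card_le_card_group _⟩
    have h1 : (frattini ↥Q).map Q.subtype ≤ ⊥ := hΦ ▸ le_iSup
      (fun Q : {Q : Subgroup S // IsMinimalCentrallyLarge Q ∧
        Nat.card ↥(omegaOneCenter p Q) = maxOmegaCenterOfMinimalCL p S} =>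
        (frattini ↥(Q : Subgroup S)).map (Q : Subgroup S).subtype)
      ⟨Q, hQ, hQsel⟩
    obtain ⟨hc, hpow⟩ := (CfsgLib.PGroup.frattini_eq_bot_iff (st.pgroup.to_subgroup Q)).1
      ((Subgroup.map_eq_bot_iff_of_injective _ Q.subtype_injective).1 (le_bot_iff.1 h1))
    exact ⟨Q, (st.mcl_iff Q).1 hQ, ⟨⟨hc⟩⟩, fun a ha => congrArg Subtype.val (hpow ⟨a, ha⟩)⟩
  · rcases center_or_frattiniJoin m.hyp with h | h
    · left
      rw [← m.zSyl_eq]
      exact h
    · right
      rw [m.map_τ, map_frattiniJoin]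
      exact h

/-- With trivial word subgroup `S` lies in the exceptional class. -/
theorem exceptional [Nontrivial S] (st : Standing p S) (hw : word p S = ⊥) :
    thompsonSubgroupA S = ⊤ ∧ IsElementaryAbelian p (Subgroup.center S) ∧
      IsElementaryAbelian p (frattini S) ∧ (p = 2 → frattini S ≤ Subgroup.center S) ∧
      (p = 3 → frattini S ≤ Subgroup.upperCentralSeries S 2) ∧
      (3 < p → frattini S ≤ Subgroup.center S ∧ Monoid.exponent S = p) ∧
      (∀ A ∈ maxAbelianSubgroups S, ∀ B ∈ maxAbelianSubgroups S, ∀ Q : Subgroup S,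
        Nat.card ↥A ^ 2 = Nat.card S * Nat.card ↥(Subgroup.center S) ∧
        Nat.card ↥Q * Nat.card ↥(Subgroup.center ↥Q) ≤ Nat.card S * Nat.card ↥(Subgroup.center S) ∧
        ((A ⊔ B : Subgroup S) : Set S) = (A : Set S) * (B : Set S) ∧
        A ⊔ B = Subgroup.centralizer ((A ⊓ B : Subgroup S) : Set S)) := by
  have hcen : ∀ H : Subgroup S, ⁅H, (⊤ : Subgroup S)⁆ = ⊥ → H ≤ Subgroup.center S := fun H h => by
    rw [Subgroup.commutator_eq_bot_iff_le_centralizer, Subgroup.coe_top, Subgroup.centralizer_univ] at h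
    exact h
  have hΦΦ : (frattini ↥(frattini S)).map (frattini S).subtype = ⊥ →
      IsElementaryAbelian p (frattini S) := fun h => by
    obtain ⟨hc, hpow⟩ := (CfsgLib.PGroup.frattini_eq_bot_iff (st.pgroup.to_subgroup _)).1
      ((Subgroup.map_eq_bot_iff_of_injective _ (frattini S).subtype_injective).1 h)
    exact ⟨⟨⟨hc⟩⟩, fun a ha => congrArg Subtype.val (hpow ⟨a, ha⟩)⟩
  have hp3 : p ≠ 2 → p ≠ 3 → frattini S ≤ Subgroup.center S ∧ ∀ x : S, x ^ p = 1 := fun h2 h3 => by
    rw [word, if_neg h2, if_neg h3, sup_eq_bot_iff] at hw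
    refine ⟨hcen _ hw.1, fun x => ?_⟩
    rw [← Subgroup.mem_bot, ← hw.2]
    exact Subgroup.subset_closure ⟨x, Subgroup.mem_top x, by rw [pow_one]⟩
  refine ⟨st.thompson_top, ⟨inferInstance, st.center_pow⟩, ?_, ?_, ?_, ?_, ?_⟩
  · by_cases h2 : p = 2
    · rw [word, if_pos h2, sup_eq_bot_iff] at hw
      exact hΦΦ hw.2
    by_cases h3 : p = 3
    · rw [word, if_neg h2, if_pos h3, sup_eq_bot_iff] at hw
      exact hΦΦ hw.2
    exact ⟨comm_of_le_cen ((hp3 h2 h3).1.trans (Subgroup.center_le_centralizer _)),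
      fun a _ => (hp3 h2 h3).2 a⟩
  · intro h2
    rw [word, if_pos h2, sup_eq_bot_iff] at hw
    exact hcen _ hw.1
  · intro h3
    rw [word, if_neg (by omega), if_pos h3, sup_eq_bot_iff] at hw
    intro x hx
    refine Subgroup.mem_upperCentralSeries_succ_iff.2 fun y => ?_
    rw [Subgroup.upperCentralSeries_one]
    exact hcen _ hw.1 (Subgroup.commutator_mem_commutator hx (Subgroup.mem_top y))
  · intro h
    obtain ⟨h1, h2⟩ := hp3 (by omega) (by omega)
    refine ⟨h1, ?_⟩
    rcases (Nat.dvd_prime hp.out).1 (Monoid.exponent_dvd_of_forall_pow_eq_one h2) with h' | h'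
    · exact absurd (Monoid.exp_eq_one_iff.1 h') (not_subsingleton S)
    · exact h'
  · intro A hA B hB Q
    refine ⟨st.card_sq hA, ?_, ?_⟩
    · rw [← st.maxCentralProduct_eq', card_center]
      exact le_maxCentralProduct Q
    · obtain ⟨h1, -, h2, -⟩ := sup_maxAbelian ((st.mcl_iff A).2 hA).1 hB
      refine ⟨h1, ?_⟩
      rw [cen_eq_self hA] at h2
      exact h2.symm

end CfsgLib.PushPair39
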