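import Cfsg.Agent.PushPair39.Conf
import Cfsg.Agent.PushingUp44.Weights

/-!
The torus element of a member: it acts as `diag(l, l⁻¹)` on every section of the natural kind.
-/

set_option autoImplicit false

open Cfsg
open scoped MatrixGroups commutatorElement
open CfsgLib.PushingUp44
open CfsgLib.PushingUp (upperT upperT_coe upperT_mul Hyp)

namespace CfsgLib.PushPair39

variable {G : Type*} [Group G] [Finite G] {p : ℕ} [hp : Fact p.Prime] {F : Type*} [Field F] [Fintype F]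
  {S : Sylow p G} {π : G →* Matrix.ProjectiveSpecialLinearGroup (Fin 2) F} {n : ℕ}
  {Γ : Type*} [Group Γ]

omit [Finite G] hp in
theorem cj_mem_of_range {f : G →* Γ} {M : Subgroup Γ} (hM : f.range ≤ Subgroup.normalizer (M : Set Γ))
    {x : G} (hx : f x ∈ M) (g : G) : f (g * x * g⁻¹) ∈ M := by
  rw [map_mul, map_mul, map_inv]
  exact (Subgroup.mem_normalizer_iff.1 (hM ⟨g, rfl⟩) _).1 hx

omit [Finite G] hp in
/-- A section of the ambient group is one of the group. -/
theorem quadPair_comap (f : G →* Γ) {M N : Subgroup Γ}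
    (P : SecPair ((S : Subgroup G).map f) f.range ((pCore p G).map f) (p ^ n) M N) :
    QuadPair S n (M.comap f) (N.comap f) where
  norM := ⟨fun _ hx g => cj_mem_of_range P.normM hx g⟩
  norN := ⟨fun _ hx g => cj_mem_of_range P.normN hx g⟩
  le := Subgroup.comap_mono P.le
  comm u hu v hv := by
    rw [Subgroup.mem_comap, map_commutatorElement]
    exact P.comm _ hu _ hv
  core u hu x hx := by
    rw [Subgroup.mem_comap, map_commutatorElement]
    exact P.core _ hu _ (Subgroup.mem_map_of_mem f hx)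
  quad u hu s hs s' hs' := by
    rw [Subgroup.mem_comap, map_commutatorElement, map_commutatorElement]
    exact P.quad _ hu _ (Subgroup.mem_map_of_mem f hs) _ (Subgroup.mem_map_of_mem f hs')
  noFix u hu h := P.noFix _ hu (by
    rintro _ ⟨g, rfl⟩
    rw [← map_commutatorElement]
    exact h g)
  index := by
    have hMr : M ≤ f.range := P.le_core.trans (Subgroup.map_le_range _ _)
    have e : fixMod (M.comap f) (N.comap f) ((S : Subgroup G) : Set G) =
        (fixMod M N (((S : Subgroup G).map f : Subgroup Γ) : Set Γ)).comap f := by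
      ext u
      constructor
      · intro hu
        refine ⟨hu.1, P.normN ⟨u, rfl⟩, ?_⟩
        rintro _ ⟨s, hs, rfl⟩
        rw [← map_commutatorElement]
        exact hu.2.2 s hs
      · intro hu
        haveI : (N.comap f).Normal := ⟨fun _ hx g => cj_mem_of_range P.normN hx g⟩
        refine ⟨hu.1, by rw [Subgroup.normalizer_eq_top_iff.2 inferInstance]; trivial, fun s hs => ?_⟩
        rw [Subgroup.mem_comap, map_commutatorElement]
        exact hu.2.2 _ (Subgroup.mem_map_of_mem f hs)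
    rw [e, Subgroup.relIndex_comap, Subgroup.map_comap_eq_self hMr]
    exact P.index
  nontrivial hle := P.nontrivial fun x hx => by
    obtain ⟨y, -, rfl⟩ := P.le_core hx
    exact hle hx

/-- The upper unitriangular group. -/
def upperRange (F : Type*) [Field F] : Subgroup SL(2, F) where
  carrier := Set.range (upperT (F := F))
  one_mem' := ⟨0, by ext i j; fin_cases i <;> fin_cases j <;> simp [upperT_coe]⟩
  mul_mem' := by
    rintro _ _ ⟨a, rfl⟩ ⟨b, rfl⟩
    exact ⟨a + b, (upperT_mul a b).symm⟩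
  inv_mem' := by
    rintro _ ⟨a, rfl⟩
    refine ⟨-a, (inv_eq_of_mul_eq_one_right ?_).symm⟩
    rw [upperT_mul, add_neg_cancel]
    ext i j; fin_cases i <;> fin_cases j <;> simp [upperT_coe]

omit [Fintype F] in
theorem upperT_pow (a : F) (j : ℕ) : upperT a ^ j = upperT ((j : F) * a) := by
  induction j with
  | zero => ext i i'; fin_cases i <;> fin_cases i' <;> simp [upperT_coe]
  | succ j ih => rw [pow_succ, ih, upperT_mul, Nat.cast_succ, add_mul, one_mul]

omit [Fintype F] in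
theorem diag_conj (a l : F) (hl : l ≠ 0) :
    diagT l hl * upperT a * (diagT l hl)⁻¹ = upperT (l * l * a) := by
  rw [mul_inv_eq_iff_eq_mul]
  ext i j
  fin_cases i <;> fin_cases j <;>
    simp [upperT_coe, diagT_coe, Matrix.SpecialLinearGroup.coe_mul, Matrix.mul_apply, Fin.sum_univ_two] <;>
    field_simp

theorem exists_torusLike (h : Hyp S π n) (f : G →* Γ) (hf : Function.Injective f) {l : ℕ} (hl : ¬ p ∣ l)
    {M₀ N₀ : Subgroup Γ}
    (P₀ : SecPair ((S : Subgroup G).map f) f.range ((pCore p G).map f) (p ^ n) M₀ N₀) :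
    ∃ t, TorusLike p ((S : Subgroup G).map f) f.range ((pCore p G).map f) (p ^ n) l t := by
  haveI hch := charP_field h
  -- arrange the Sylow subgroup to be upper unitriangular
  obtain ⟨x, hx⟩ := coe_eq_cj_upperSub h.one_le h.card (S.mapSurjective h.surj)
  rw [Sylow.coe_mapSurjective] at hx
  set π' := (MulAut.conj x⁻¹).toMonoidHom.comp π with hπ'
  have h' : Hyp S π' n := ⟨h.cent, h.uniq, h.one_le, h.card, (MulAut.conj x⁻¹).surjective.comp h.surj⟩
  have hU : (S : Subgroup G).map π' = upperSub F := by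
    rw [← Subgroup.map_map, hx]
    exact cj_inv_cj x _
  obtain ⟨ρ, hρs, hρ, -, -, -, -⟩ := (quadPair_comap f P₀).exists_rho h' hU
  have hlF : (l : F) ≠ 0 := fun e => hl ((CharP.cast_eq_zero_iff F p l).1 e)
  obtain ⟨g₀, hg₀⟩ := hρs (diagT (l : F) hlF)
  set H := (upperRange F).comap ρ with hH
  have hSH : (S : Subgroup G) ≤ H := fun s hs => by
    obtain ⟨a, ha⟩ := rho_sylow h' hU hρ hs
    exact ⟨a, ha.symm⟩
  have hSH' : ((g₀ • S : Sylow p G) : Subgroup G) ≤ H := by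
    rintro _ ⟨s, hs, rfl⟩
    obtain ⟨a, ha⟩ := rho_sylow h' hU hρ hs
    refine ⟨(l : F) * l * a, ?_⟩
    show _ = ρ (g₀ * s * g₀⁻¹)
    rw [map_mul, map_mul, map_inv, hg₀, ha, diag_conj]
  obtain ⟨k, hk⟩ := MulAction.exists_smul_eq H ((g₀ • S).subtype hSH') (S.subtype hSH)
  rw [Sylow.smul_subtype] at hk
  have hk' := Sylow.subtype_injective hk
  change (k : G) • g₀ • S = S at hk'
  rw [← mul_smul, Sylow.smul_eq_iff_mem_normalizer] at hk'
  set t := (k : G) * g₀ with ht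
  obtain ⟨b, hb⟩ := k.2
  have hρt : ρ t = upperT b * diagT (l : F) hlF := by rw [ht, map_mul, hb, hg₀]
  refine ⟨f t, ⟨t, rfl⟩, ?_, fun M N P => ?_⟩
  · rintro _ ⟨s, hs, rfl⟩
    refine ⟨t * s * t⁻¹ * (s ^ (l * l))⁻¹, h'.inf_ker.le (Subgroup.mem_inf.2 ⟨?_, ?_⟩), by simp⟩
    · exact Subgroup.mul_mem _ ((Subgroup.mem_normalizer_iff.1 hk' s).1 hs)
        (Subgroup.inv_mem _ (Subgroup.pow_mem _ hs _))
    · obtain ⟨a, ha⟩ := rho_sylow h' hU hρ hs
      have e : ρ (t * s * t⁻¹ * (s ^ (l * l))⁻¹) = 1 := by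
        rw [map_mul, map_mul, map_mul, map_inv, map_inv, map_pow, hρt, ha, upperT_pow, Nat.cast_mul,
          mul_inv_eq_one, mul_inv_rev]
        calc upperT b * diagT (l : F) hlF * upperT a * ((diagT (l : F) hlF)⁻¹ * (upperT b)⁻¹)
            = upperT b * (diagT (l : F) hlF * upperT a * (diagT (l : F) hlF)⁻¹) * (upperT b)⁻¹ := by group
          _ = _ := by rw [diag_conj, upperT_mul, mul_inv_eq_iff_eq_mul, upperT_mul, add_comm]
      rw [MonoidHom.mem_ker, ← DFunLike.congr_fun hρ]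
      show toPSL F (ρ _) = 1
      rw [e, map_one]
  -- the action on a section
  have hPq := quadPair_comap f P
  obtain ⟨ρ', -, hρ', -, -, -, χ, hχ, hχ0, hχc⟩ := hPq.exists_rho h' hU
  have hρe : ρ' = ρ := QuadPair.lifts_eq h' hρ' hρ
  subst hρe
  haveI := hPq.norM
  haveI := hPq.norN
  set M' := M.comap f with hM'
  have hχone : χ 1 = 0 := (hχ0 1 (one_mem _)).2 (one_mem _)
  have hχinv : ∀ u ∈ M', χ u⁻¹ = -χ u := fun u hu => by
    refine eq_neg_of_add_eq_zero_right ?_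
    rw [← hχ u hu _ (inv_mem hu), mul_inv_cancel, hχone]
  have hχpow : ∀ u ∈ M', ∀ j : ℕ, χ (u ^ j) = (j : F) • χ u := by
    intro u hu j
    induction j with
    | zero => rw [pow_zero, hχone, Nat.cast_zero, zero_smul]
    | succ j ih => rw [pow_succ, hχ _ (pow_mem hu j) u hu, ih, Nat.cast_succ, add_smul, one_smul]
  have hdiff : ∀ u ∈ M', ∀ (g : G) (j : ℕ),
      χ (g * u * g⁻¹ * (u ^ j)⁻¹) =
        (ρ' g : Matrix (Fin 2) (Fin 2) F).mulVec (χ u) - (j : F) • χ u := fun u hu g j => by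
    rw [hχ _ (hPq.norM.conj_mem u hu g) _ (inv_mem (pow_mem hu j)), hχinv _ (pow_mem hu j),
      hχpow u hu j, hχc g u hu, sub_eq_add_neg]
  obtain ⟨s₀, hs₀, a₀, ha₀, ha0⟩ : ∃ s₀ ∈ (S : Subgroup G), ∃ a₀, ρ' s₀ = upperT a₀ ∧ a₀ ≠ 0 := by
    by_contra! hcon
    refine h'.map_sylow_ne_bot ((Subgroup.eq_bot_iff_forall _).2 ?_)
    rintro _ ⟨s, hs, rfl⟩
    obtain ⟨a, ha⟩ := rho_sylow h' hU hρ hs
    rw [← DFunLike.congr_fun hρ s]
    show toPSL F (ρ' s) = 1
    rw [ha, hcon s hs a ha]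
    convert map_one (toPSL F)
    ext i j; fin_cases i <;> fin_cases j <;> simp [upperT_coe]
  have hfix : ∀ u ∈ M', (∀ s ∈ (S : Subgroup G), ⁅u, s⁆ ∈ N.comap f) ↔ χ u 1 = 0 := by
    intro u hu
    have e : ∀ s a, ρ' s = upperT a → χ (s * u⁻¹ * s⁻¹ * u) = ![-(a * χ u 1), 0] := fun s a ha => by
      rw [hχ _ (hPq.norM.conj_mem _ (inv_mem hu) s) u hu, hχc s _ (inv_mem hu), hχinv u hu, ha, upperT_coe]
      funext i
      fin_cases i <;> simp [Matrix.mulVec, dotProduct, Fin.sum_univ_two]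
    have hiff : ∀ s, ⁅u, s⁆ ∈ N.comap f ↔ χ (s * u⁻¹ * s⁻¹ * u) = 0 := fun s => by
      rw [hχ0 _ (mul_mem (hPq.norM.conj_mem _ (inv_mem hu) s) hu)]
      have e2 : s * u⁻¹ * s⁻¹ * u = u⁻¹ * ⁅u, s⁆ * u := by
        simp [commutatorElement_def, mul_assoc]
      rw [e2]
      exact ⟨fun hm => by simpa using hPq.norN.conj_mem _ hm u⁻¹,
        fun hm => by simpa [mul_assoc] using hPq.norN.conj_mem _ hm u⟩
    constructor
    · intro hall
      have h1 := (hiff s₀).1 (hall s₀ hs₀)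
      rw [e s₀ a₀ ha₀] at h1
      have h2 := congrFun h1 0
      simpa [ha0] using h2
    · intro h1 s hs
      obtain ⟨a, ha⟩ := rho_sylow h' hU hρ hs
      rw [hiff, e s a ha, h1]
      funext i
      fin_cases i <;> simp
  have hmem : ∀ u, u ∈ M → ∃ u₀ ∈ M', f u₀ = u := fun u hu => by
    obtain ⟨u₀, -, rfl⟩ := P.le_core hu
    exact ⟨u₀, hu, rfl⟩
  have hfixΓ : ∀ u₀ ∈ M', f u₀ ∈ fixMod M N (((S : Subgroup G).map f : Subgroup Γ) : Set Γ) ↔ χ u₀ 1 = 0 := by
    intro u₀ hu₀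
    rw [← hfix u₀ hu₀]
    constructor
    · intro hu s hs
      rw [Subgroup.mem_comap, map_commutatorElement]
      exact hu.2.2 _ (Subgroup.mem_map_of_mem f hs)
    · intro hu
      refine ⟨hu₀, P.normN ⟨u₀, rfl⟩, ?_⟩
      rintro _ ⟨s, hs, rfl⟩
      rw [← map_commutatorElement]
      exact hu s hs
  refine ⟨fun u hu => ?_, fun κ hκ u hu => ?_⟩
  · obtain ⟨u₀, hu₀, rfl⟩ := hmem u hu.1
    have h1 := (hfixΓ u₀ hu₀).1 hu
    rw [show f t * f u₀ * (f t)⁻¹ * (f u₀ ^ l)⁻¹ = f (t * u₀ * t⁻¹ * (u₀ ^ l)⁻¹) by simp]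
    refine (hχ0 _ (mul_mem (hPq.norM.conj_mem u₀ hu₀ t) (inv_mem (pow_mem hu₀ l)))).1 ?_
    rw [hdiff u₀ hu₀, hρt, Matrix.SpecialLinearGroup.coe_mul, upperT_coe, diagT_coe]
    funext i
    fin_cases i <;> simp [Matrix.mulVec, dotProduct, Fin.sum_univ_two, h1]
  · obtain ⟨u₀, hu₀, rfl⟩ := hmem u hu
    rw [show f t * f u₀ * (f t)⁻¹ * (f u₀ ^ κ)⁻¹ = f (t * u₀ * t⁻¹ * (u₀ ^ κ)⁻¹) by simp]
    refine (hfixΓ _ (mul_mem (hPq.norM.conj_mem u₀ hu₀ t) (inv_mem (pow_mem hu₀ κ)))).2 ?_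
    rw [hdiff u₀ hu₀, hρt, Matrix.SpecialLinearGroup.coe_mul, upperT_coe, diagT_coe]
    have hlκ : (l : F) * (κ : F) = 1 := by
      rw [← Nat.cast_mul, ← Nat.cast_one (R := F)]
      exact (CharP.natCast_eq_natCast F p).2 (by
        rw [Nat.ModEq, hκ, Nat.mod_eq_of_lt hp.out.one_lt])
    simp [Matrix.mulVec, dotProduct, Fin.sum_univ_two, inv_eq_of_mul_eq_one_right hlκ]

end CfsgLib.PushPair39
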